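import Cfsg.Agent.H773.Pw.Spor
import Cfsg.Agent.H839.SeventeenMain
import Cfsg.Agent.H839.Thirteen
import Cfsg.Agent.H836.Main
import Cfsg.Agent.S1697

/-!
# S2454: the row `Fi23` (helper980, task 3455)
-/

set_option autoImplicit false
set_option maxRecDepth 100000

namespace Cfsg.Agent.H980.PwFi23

open Subgroup Cfsg Cfsg.Agent.H514.DP Cfsg.Agent.H773.Pw
open Cfsg.Agent.LThreeFi23 Cfsg.Agent.H839.Fi23 Cfsg.Agent.H838.Fi23
open Cfsg.Agent.H836.Main (centralizer_zpowers)
open Cfsg.Spor (Fi23)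

instance simple : IsSimpleGroup Fi23 := Cfsg.Agent.S1697.result.1

theorem card_fi23 : Nat.card Fi23 = 4089470473293004800 := Cfsg.Agent.S1697.result.2

instance finite : Finite Fi23 := Nat.finite_of_card_ne_zero (by rw [card_fi23]; norm_num)

theorem na : ¬ ∀ a b : Fi23, a * b = b * a := by
  refine Cfsg.Agent.H253.TC.not_comm_of_card (n := 4089470473293004800) card_fi23 (by norm_num) (p := 23) (by norm_num)
    (by norm_num) (by norm_num)

/-- the index of the centralizer in the normalizer -/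
theorem relIndex_eq {G : Type*} [Group G] [Finite G] {X : Subgroup G} {c e : ℕ} (hc0 : 0 < c)
    (hc : Nat.card (centralizer (X : Set G)) = c) (hn : Nat.card (normalizer (X : Set G)) = c * e) :
    (centralizer (X : Set G)).relIndex (normalizer (X : Set G)) = e := by
  have h := Cfsg.Agent.H839.Count.relIndex_mul_card' (centralizer_le_normalizer (X : Set G))
  rw [hc, hn, mul_comm] at h
  exact Nat.eq_of_mul_eq_mul_left hc0 h

section

variable {y : Fi23}

theorem cent17 (hy : orderOf y = 17) : Nat.card (centralizer ((zpowers y : Subgroup Fi23) : Set Fi23)) = 17 ∧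
    Nat.card (normalizer ((zpowers y : Subgroup Fi23) : Set Fi23)) = 17 * 16 := by
  have h := seventeen_main (zpowers y) (by rw [Nat.card_zpowers, hy])
  exact ⟨by rw [h.2, Nat.card_zpowers, hy], h.1⟩

theorem cent23 (hy : orderOf y = 23) : Nat.card (centralizer ((zpowers y : Subgroup Fi23) : Set Fi23)) = 23 ∧
    Nat.card (normalizer ((zpowers y : Subgroup Fi23) : Set Fi23)) = 23 * 11 := by
  have h := twentythree_main (zpowers y) (by rw [Nat.card_zpowers, hy])
  exact ⟨by rw [h.2, Nat.card_zpowers, hy], h.1⟩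

theorem cent13 (hy : orderOf y = 13) : Nat.card (centralizer ({y} : Set Fi23)) = 78 := by
  have hSy : ∀ x ∈ SL L3, x * elw y13 = elw y13 * x := fun x hx => (S3_comm_y13 hx).symm
  have hcard := Cfsg.Agent.H839.FrobGen.card_cent (by norm_num : Nat.Prime 13) pow13 y13_ne hSy
    (fun w hw => Cfsg.Agent.H839.Fi23.cent13 hw) y13_pow_S3
  rw [card_S3] at hcard
  obtain ⟨g, hg⟩ := conj_all13 (zpowers (elw y13)) (zpowers y) card_y13 (by rw [Nat.card_zpowers, hy])
  rw [← centralizer_zpowers, ← hg]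
  have h1 := Cfsg.Agent.H838.Transport.map_centralizer (MulAut.conj g) ((zpowers (elw y13) : Subgroup Fi23) : Set Fi23)
  have h2 : (((zpowers (elw y13)).map (MulAut.conj g).toMonoidHom : Subgroup Fi23) : Set Fi23) =
      (MulAut.conj g) '' ((zpowers (elw y13) : Subgroup Fi23) : Set Fi23) := rfl
  rw [h2, ← h1]
  rw [Subgroup.card_map_of_injective (MulAut.conj g).injective, hcard]

end

theorem minDeg : MinDeg Fi23 16 := by
  obtain ⟨y, hy⟩ := exists_order (K := Fi23) (l := 17) (by norm_num) (by rw [card_fi23]; norm_num)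
  obtain ⟨h1, h2⟩ := cent17 hy
  exact minDeg_of_norm na (l := 17) (by norm_num) hy (by rw [h1, h2])

/-! ### words -/

/-- repetition -/
def rp : ℕ → List Lt → List Lt
  | 0, _ => []
  | n + 1, l => l ++ rp n l

theorem elw_rp (n : ℕ) (l : List Lt) : elw (rp n l) = elw l ^ n := by
  induction n with
  | zero => rw [pow_zero]; exact elw_nil
  | succ n ih =>
    show elw (l ++ rp n l) = _
    rw [elw_append, ih, pow_succ']

theorem pow_of {l : List Lt} {n : ℕ}
    (h : agree (rp n l) [] [11589, 8004, 8003, 8000, 8002, 8005, 7999, 8007, 8006, 0] = true) : elw l ^ n = 1 := by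
  rw [← elw_rp, elw_eq_of_agree h, elw_nil]

/-- `b` and its conjugate by `g`, with product of order 13 -/
def wd (b g : List Lt) : List Lt := b ++ (g ++ (b ++ g.reverse))

theorem elw_wd (b g : List Lt) : elw (wd b g) = elw b * (elw g * elw b * (elw g)⁻¹) := by
  unfold wd
  rw [elw_append, elw_append, elw_append, elw_reverse]
  group

def b3 : List Lt := [.a, .b, .e, .f, .h, .i]
def g3 : List Lt := [.c, .d, .b, .c]
def b5 : List Lt := [.a, .b, .c, .d]
def g5 : List Lt := [.b, .h, .i, .e, .f, .d, .h, .e, .j, .b, .j]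
def b7 : List Lt := [.a, .b, .c, .d, .h, .i]
def g7 : List Lt := [.e, .d, .f, .h, .e, .i]

theorem p3 : elw b3 ^ 3 = 1 := pow_of (by decide +kernel)
theorem p5 : elw b5 ^ 5 = 1 := pow_of (by decide +kernel)
theorem p7 : elw b7 ^ 7 = 1 := pow_of (by decide +kernel)
theorem o3 : elw (wd b3 g3) ^ 13 = 1 := pow_of (by decide +kernel)
theorem o5 : elw (wd b5 g5) ^ 13 = 1 := pow_of (by decide +kernel)
theorem o7 : elw (wd b7 g7) ^ 13 = 1 := pow_of (by decide +kernel)
theorem n3 : elw (wd b3 g3) ≠ 1 := ne_one_of_pt (p := 8003) (by decide +kernel)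
theorem n5 : elw (wd b5 g5) ≠ 1 := ne_one_of_pt (p := 8003) (by decide +kernel)
theorem n7 : elw (wd b7 g7) ≠ 1 := ne_one_of_pt (p := 8003) (by decide +kernel)

/-- the case of a product of two `p`-elements of order 13 -/
theorem pw_wd {p : ℕ} {b g : List Lt} (hb : elw b ^ p = 1) (ho : elw (wd b g) ^ 13 = 1) (hn : elw (wd b g) ≠ 1) :
    PW p 70 Fi23 := by
  have hf : Fact (Nat.Prime 13) := ⟨by norm_num⟩
  have hy : orderOf (elw (wd b g)) = 13 := orderOf_eq_prime ho hn
  have hpe : IsPE p (elw b) := ⟨1, by rw [pow_one, hb]⟩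
  have h2 : PE p 2 (elw (wd b g)) := by
    rw [elw_wd]
    exact hpe.pe.mul (hpe.conj (elw g)).pe
  exact pw_of_pe na h2 minDeg (cent13 hy).le (k := 10) (by norm_num) (by norm_num) (by norm_num)

theorem pw_model {p : ℕ} (hp : p.Prime) (hd : p ∣ Nat.card Fi23) : PW p 70 Fi23 := by
  have h : p ∣ 2 ^ 18 * 3 ^ 13 * 5 ^ 2 * 7 * 11 * 13 * 17 * 23 := by
    rw [card_fi23] at hd
    exact hd.trans (by norm_num)
  simp only [hp.dvd_mul] at h
  rcases h with ((((((h | h) | h) | h) | h) | h) | h) | h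
  · obtain rfl := (Nat.prime_dvd_prime_iff_eq hp Nat.prime_two).1 (hp.dvd_of_dvd_pow h)
    obtain ⟨y, hy⟩ := exists_order (K := Fi23) (l := 17) (by norm_num) (by rw [card_fi23]; norm_num)
    obtain ⟨h1, h2⟩ := cent17 hy
    exact pw_of_norm na hp (l := 17) (by norm_num) hy (by rw [relIndex_eq (by norm_num) h1 h2]; norm_num) minDeg
      (c := 17) (by rw [← centralizer_zpowers, h1]) (k := 5) (by norm_num) (by norm_num) (by norm_num)
  · obtain rfl := (Nat.prime_dvd_prime_iff_eq hp Nat.prime_three).1 (hp.dvd_of_dvd_pow h)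
    exact pw_wd p3 o3 n3
  · obtain rfl := (Nat.prime_dvd_prime_iff_eq hp Nat.prime_five).1 (hp.dvd_of_dvd_pow h)
    exact pw_wd p5 o5 n5
  · obtain rfl := (Nat.prime_dvd_prime_iff_eq hp (by norm_num)).1 h
    exact pw_wd p7 o7 n7
  · obtain rfl := (Nat.prime_dvd_prime_iff_eq hp (by norm_num)).1 h
    obtain ⟨y, hy⟩ := exists_order (K := Fi23) (l := 23) (by norm_num) (by rw [card_fi23]; norm_num)
    obtain ⟨h1, h2⟩ := cent23 hy
    exact pw_of_norm na hp (l := 23) (by norm_num) hy (by rw [relIndex_eq (by norm_num) h1 h2]) minDeg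
      (c := 23) (by rw [← centralizer_zpowers, h1]) (k := 5) (by norm_num) (by norm_num) (by norm_num)
  · obtain rfl := (Nat.prime_dvd_prime_iff_eq hp (by norm_num)).1 h
    exact pw_of_order na hp hd minDeg (c := 78) (fun y hy => (cent13 hy).le) (k := 10) (by norm_num) (by norm_num)
      (by norm_num)
  · obtain rfl := (Nat.prime_dvd_prime_iff_eq hp (by norm_num)).1 h
    exact pw_of_order na hp hd minDeg (c := 17) (fun y hy => by rw [← centralizer_zpowers, (cent17 hy).1]) (k := 5)
      (by norm_num) (by norm_num) (by norm_num)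
  · obtain rfl := (Nat.prime_dvd_prime_iff_eq hp (by norm_num)).1 h
    exact pw_of_order na hp hd minDeg (c := 23) (fun y hy => by rw [← centralizer_zpowers, (cent23 hy).1]) (k := 5)
      (by norm_num) (by norm_num) (by norm_num)

/-- **`Fi23`** -/
theorem pw_fi23 {S : Type*} [Group S] (h : Spor.IsoFi23 S) {p : ℕ} (hp : p.Prime) (hd : p ∣ Nat.card S) :
    PW p 70 S := by
  obtain ⟨e⟩ := h
  exact (pw_model hp (by rwa [← Nat.card_congr e.toEquiv])).congr e.symm

end Cfsg.Agent.H980.PwFi23
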