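import Cfsg.Agent.H301.SY.Base
import Cfsg.Agent.H412.Tc.Basic
import Cfsg.Agent.H804.TitsFive

/-!
# S3846: the row of the Tits group (helper980)

`noya_tits` : `NoYA p K` for the Tits group.  For `p = 5` and `p = 13` there are `x` of order `p`, an `r`-element `y`,
`r = 2`, which normalises `⟨x⟩`, and a conjugate `y'` of `y` with `(x y') ^ n = 1`, `n` prime to the order of `x` and
`y`, so that `⟨x, y'⟩` is perfect.
-/

set_option autoImplicit false
set_option maxRecDepth 100000

namespace Cfsg.Agent.H980.NoYATits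

open Subgroup Cfsg
open Cfsg.Agent.H459.Iface Cfsg.Agent.H459.Rad Cfsg.Agent.H301.SY

section Gen

variable {G : Type*} [Group G]

theorem comm_one {A : Type*} [CommGroup A] {y z : A} {p m n : ℕ} (hy : y ^ p = 1) (hz : z ^ m = 1)
    (h : (y * z) ^ n = 1) (h1 : Nat.gcd n (p * m) = 1) (h2 : Nat.gcd p m = 1) : y = 1 ∧ z = 1 := by
  have e1 : y * z = 1 := by
    have h3 : (y * z) ^ (p * m) = 1 := by
      rw [mul_pow, pow_mul, hy, one_pow, one_mul, mul_comm p m, pow_mul, hz, one_pow]
    have h4 : (y * z) ^ Nat.gcd n (p * m) = 1 := pow_gcd_eq_one.2 ⟨h, h3⟩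
    rwa [h1, pow_one] at h4
  have e2 : y = 1 := by
    have h3 : y ^ m = 1 := by
      have h5 : y = z⁻¹ := eq_inv_of_mul_eq_one_left e1
      rw [h5, inv_pow, hz, inv_one]
    have h4 : y ^ Nat.gcd p m = 1 := pow_gcd_eq_one.2 ⟨hy, h3⟩
    rwa [h2, pow_one] at h4
  exact ⟨e2, by rwa [e2, one_mul] at e1⟩

/-- two elements with these relations generate a non-solvable group -/
theorem not_solvable {y z : G} {p m n : ℕ} (hy : y ^ p = 1) (hz : z ^ m = 1)
    (h : (y * z) ^ n = 1) (h1 : Nat.gcd n (p * m) = 1) (h2 : Nat.gcd p m = 1) (hne : y ≠ 1) :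
    ¬ Group.IsSolvable ↥(closure ({y, z} : Set G)) := by
  intro hMs
  set M : Subgroup G := closure {y, z} with hM
  have hyM : y ∈ M := subset_closure (Or.inl rfl)
  have hzM : z ∈ M := subset_closure (Or.inr rfl)
  have hperf : _root_.commutator M = ⊤ := by
    have h3 : (⊤ : Subgroup M) ≤ _root_.commutator M := by
      have h4 : closure ({⟨y, hyM⟩, ⟨z, hzM⟩} : Set M) = ⊤ := by
        apply map_injective M.subtype_injective
        rw [MonoidHom.map_closure, ← MonoidHom.range_eq_map, range_subtype, Set.image_pair]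
        rfl
      rw [← h4, closure_le]
      have h5 := comm_one (A := Abelianization M) (y := Abelianization.of ⟨y, hyM⟩)
        (z := Abelianization.of ⟨z, hzM⟩) (p := p) (m := m) (n := n)
        (by rw [← map_pow]; exact (congrArg _ (Subtype.ext hy)).trans (map_one _))
        (by rw [← map_pow]; exact (congrArg _ (Subtype.ext hz)).trans (map_one _))
        (by rw [← map_mul, ← map_pow]; exact (congrArg _ (Subtype.ext h)).trans (map_one _)) h1 h2
      rintro _ (rfl | rfl)
      · exact (QuotientGroup.eq_one_iff _).1 h5.1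
      · exact (QuotientGroup.eq_one_iff _).1 h5.2
    exact top_le_iff.1 h3
  have h6 : ∀ n, derivedSeries M n = ⊤ := by
    intro n
    induction n with
    | zero => rfl
    | succ n ih => rw [derivedSeries_succ, ih]; exact hperf
  obtain ⟨n, hn⟩ := (Group.isSolvable_def M).1 hMs
  rw [h6 n] at hn
  have h7 : (⟨y, hyM⟩ : M) ∈ (⊥ : Subgroup M) := by rw [← hn]; exact mem_top _
  exact hne (congrArg Subtype.val (mem_bot.1 h7))

theorem closure_pair (x y : G) : closure ({x, y} : Set G) = zpowers y ⊔ zpowers x := by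
  rw [zpowers_eq_closure, zpowers_eq_closure, ← Subgroup.closure_union, Set.pair_comm]
  rfl

/-- an element which normalises `⟨x⟩` generates a solvable group with `x` -/
theorem solvable_of_norm [Finite G] {x t : G} {k : ℕ} (h : t * x * t⁻¹ = x ^ k) :
    Group.IsSolvable ↥(closure ({x, t} : Set G)) := by
  rw [closure_pair]
  refine Cfsg.Agent.H412.Tc.solvable_sup inferInstance inferInstance ?_
  intro s hs y hy
  rw [← mem_powers_iff_mem_zpowers] at hs
  obtain ⟨n, rfl⟩ := hs
  induction n generalizing y with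
  | zero => simpa using hy
  | succ n ih =>
    have h1 : t * y * t⁻¹ ∈ zpowers x := by
      obtain ⟨m, rfl⟩ := mem_zpowers_iff.1 hy
      have h2 : t * x ^ m * t⁻¹ = (t * x * t⁻¹) ^ m := by rw [conj_zpow]
      rw [h2, h]
      exact zpow_mem (pow_mem (mem_zpowers x) k) m
    have h3 := ih _ h1
    have h4 : (fun x_1 ↦ t ^ x_1) n * (t * y * t⁻¹) * ((fun x_1 ↦ t ^ x_1) n)⁻¹ =
        (fun x_1 ↦ t ^ x_1) (n + 1) * y * ((fun x_1 ↦ t ^ x_1) (n + 1))⁻¹ := by
      simp only [pow_succ]
      group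
    rw [← h4]
    exact h3

/-- `x` does not satisfy `YE` -/
def Wit (x : G) : Prop :=
  ∃ y g : G, (∃ k : ℕ, orderOf y = 2 ^ k) ∧ Group.IsSolvable ↥(closure ({x, y} : Set G)) ∧
    ¬ Group.IsSolvable ↥(closure ({x, g * y * g⁻¹} : Set G))

theorem solvable_iff {H : Type*} [Group H] (e : G ≃* H) (x : G) (y : H) :
    Group.IsSolvable ↥(closure ({x, e.symm y} : Set G)) ↔ Group.IsSolvable ↥(closure ({e x, y} : Set H)) := by
  have h1 : (closure ({x, e.symm y} : Set G)).map e.toMonoidHom = closure ({e x, y} : Set H) := by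
    rw [MonoidHom.map_closure, Set.image_pair]
    simp
  have h2 : (closure ({x, e.symm y} : Set G)) ≃* ↥(closure ({e x, y} : Set H)) := by
    rw [← h1]
    exact (closure ({x, e.symm y} : Set G)).equivMapOfInjective e.toMonoidHom e.injective
  constructor
  · intro h
    exact Group.isSolvable_of_isSolvable_injective (f := h2.symm.toMonoidHom) h2.symm.injective
  · intro h
    exact Group.isSolvable_of_isSolvable_injective (f := h2.toMonoidHom) h2.injective

theorem Wit.of_equiv {H : Type*} [Group H] (e : G ≃* H) {x : G} (h : Wit (e x)) : Wit x := by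
  obtain ⟨y, g, ⟨k, hk⟩, h1, h2⟩ := h
  refine ⟨e.symm y, e.symm g, ⟨k, ?_⟩, ?_, ?_⟩
  · rw [MulEquiv.orderOf_eq, hk]
  · rwa [solvable_iff]
  · rw [← map_mul, ← map_inv, ← map_mul, solvable_iff]
    exact h2

theorem Wit.of_zpowers {x y : G} (h : zpowers x = zpowers y) (hy : Wit y) : Wit x := by
  obtain ⟨z, g, h0, h1, h2⟩ := hy
  rw [closure_pair] at h1 h2
  refine ⟨z, g, h0, ?_, ?_⟩
  · rw [closure_pair, h]; exact h1
  · rw [closure_pair, h]; exact h2

theorem Wit.not_ye {x : G} (h : Wit x) {p : ℕ} (hp : p ≠ 2) (hY : YE p x) : False := by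
  obtain ⟨y, g, h0, h1, h2⟩ := h
  exact h2 (hY 2 Nat.prime_two hp.symm y h0 h1 g)

end Gen

section Model

open Cfsg.Agent.Omega.TwoF.Tits Cfsg.Agent.Omega.TwoF.Scalar Cfsg.Agent.Omega.TwoF.Orb
  Cfsg.Agent.ChevalleyStructure.Tits.Main Cfsg.Agent.ChevalleyStructure.Tits.Mat
  Cfsg.Agent.ChevalleyStructure.Tits.Order Cfsg.Agent.ChevalleyStructure.Tits.Cert
  Cfsg.Agent.ChevalleyStructure.Tits.Sat
open Cfsg.Agent.H804.TitsFive (g8 g8_sq)

theorem inv_of {v w : List ℕ} (hv : (lt10 v && !par v) = true) (hw : (lt10 w && !par w) = true)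
    (h : ck (v ++ w) [] = true) : (⟨wH v, wH_mem hv⟩ : C)⁻¹ = ⟨wH w, wH_mem hw⟩ := by
  apply inv_eq_of_mul_eq_one_right
  apply Subtype.ext
  show wH v * wH w = 1
  rw [← wH_append]
  exact rel (v := []) h

/-! ### the elements of order five -/

theorem t4 : t ^ 4 = 1 := by
  apply Subtype.ext
  show wH wt ^ 4 = 1
  rw [← wH_rep]
  exact rel (v := []) (by decide +kernel)

/-- the conjugating element -/
noncomputable def h5 : C := ⟨wH [0, 8, 9], wH_mem (by decide +kernel)⟩

theorem h5_inv : h5⁻¹ = ⟨wH [9, 8, 0], wH_mem (by decide +kernel)⟩ :=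
  inv_of (by decide +kernel) (by decide +kernel) (by decide +kernel)

theorem pow13 : (a * (h5 * t * h5⁻¹)) ^ 13 = 1 := by
  apply Subtype.ext
  have h : (((a * (h5 * t * h5⁻¹)) ^ 13 : C) : H0) = (wH wa * (wH [0, 8, 9] * wH wt * wH [9, 8, 0])) ^ 13 := by
    rw [h5_inv]; rfl
  rw [h, ← wH_append, ← wH_append, ← wH_append, ← wH_rep]
  exact rel (v := []) (by decide +kernel)

theorem wit_a : Wit a := by
  have hf : Finite H0 := fin_H0
  refine ⟨t, h5, ?_, solvable_of_norm ta, ?_⟩
  · have h1 : orderOf t ∣ 2 ^ 2 := orderOf_dvd_of_pow_eq_one t4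
    obtain ⟨k, -, hk⟩ := (Nat.dvd_prime_pow Nat.prime_two).1 h1
    exact ⟨k, hk⟩
  · refine not_solvable (p := 5) (m := 4) (n := 13) a5 ?_ pow13 (by norm_num) (by norm_num) a1
    rw [conj_pow, t4]
    group

theorem wit_five {x : C} (hx : orderOf x = 5) : Wit x := by
  obtain ⟨s, hs⟩ := Cfsg.Agent.H804.TitsFive.exists_conj hx
  refine Wit.of_equiv (MulAut.conj s) ?_
  have h : (MulAut.conj s) x = a := hs
  rw [h]
  exact wit_a

/-! ### the elements of order thirteen -/

/-- the word of an element of order thirteen -/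
def wc : List ℕ := [8, 9, 5, 8, 5, 5, 5, 9]

/-- an element of order thirteen -/
noncomputable def c : C := ⟨wH wc, wH_mem (by decide +kernel)⟩

theorem c13 : c ^ 13 = 1 := by
  apply Subtype.ext
  show wH wc ^ 13 = 1
  rw [← wH_rep]
  exact rel (v := []) (by decide +kernel)

theorem c1 : c ≠ 1 := by
  intro h
  have h1 : ((c : H0) : GL I52 (ZMod 2)) = 1 := by rw [h]; rfl
  have h2 : ((c : H0) : GL I52 (ZMod 2)) = (wc.map yG).prod := coe_wH (by decide)
  have h3 := not_mem_of_chk (ws := []) (O := [1]) (w := wc) (by decide +kernel)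
    (by intro v hv; exact absurd hv (List.not_mem_nil)) (by decide)
  apply h3
  rw [← h2, h1]
  exact Subgroup.one_mem _

theorem g8_c : g8 * c * g8⁻¹ = c ^ 12 := by
  rw [mul_inv_eq_iff_eq_mul]
  apply Subtype.ext
  show wH [8] * wH wc = wH wc ^ 12 * wH [8]
  rw [← wH_rep, ← wH_append, ← wH_append]
  exact rel (by decide +kernel)

/-- the conjugating element -/
noncomputable def h13 : C := ⟨wH [3, 3, 2], wH_mem (by decide +kernel)⟩

theorem h13_inv : h13⁻¹ = ⟨wH [2, 3, 3], wH_mem (by decide +kernel)⟩ :=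
  inv_of (by decide +kernel) (by decide +kernel) (by decide +kernel)

theorem pow3 : (c * (h13 * g8 * h13⁻¹)) ^ 3 = 1 := by
  apply Subtype.ext
  have h : (((c * (h13 * g8 * h13⁻¹)) ^ 3 : C) : H0) = (wH wc * (wH [3, 3, 2] * wH [8] * wH [2, 3, 3])) ^ 3 := by
    rw [h13_inv]; rfl
  rw [h, ← wH_append, ← wH_append, ← wH_append, ← wH_rep]
  exact rel (v := []) (by decide +kernel)

theorem wit_c : Wit c := by
  have hf : Finite H0 := fin_H0
  have hg : g8 ^ 2 = 1 := by rw [pow_two]; exact g8_sq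
  refine ⟨g8, h13, ?_, solvable_of_norm g8_c, ?_⟩
  · have h1 : orderOf g8 ∣ 2 ^ 1 := orderOf_dvd_of_pow_eq_one (by rw [pow_one]; exact hg)
    obtain ⟨k, -, hk⟩ := (Nat.dvd_prime_pow Nat.prime_two).1 h1
    exact ⟨k, hk⟩
  · refine not_solvable (p := 13) (m := 2) (n := 3) c13 ?_ pow3 (by norm_num) (by norm_num) c1
    rw [conj_pow, hg]
    group

theorem orderOf_c : orderOf c = 13 := by
  have : Fact (Nat.Prime 13) := ⟨by norm_num⟩
  exact orderOf_eq_prime c13 c1

theorem wit_thirteen {x : C} (hx : orderOf x = 13) : Wit x := by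
  have hf : Finite H0 := fin_H0
  have : Fact (Nat.Prime 13) := ⟨by norm_num⟩
  have hP : ∀ P : Sylow 13 C, IsCyclic (P : Subgroup C) := by
    intro P
    have h1 : Nat.card P = 13 := by
      have h2 := P.card_eq_multiplicity
      rw [H0_result.2.2.2] at h2
      have h3 : (2 ^ 11 * 3 ^ 3 * 5 ^ 2 * 13).factorization 13 = 1 := by
        have h4 : (2 ^ 11 * 3 ^ 3 * 5 ^ 2 * 13 : ℕ) = 13 ^ 1 * 1382400 := by norm_num
        rw [h4]
        rw [Nat.factorization_mul (by norm_num) (by norm_num), Finsupp.add_apply,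
          Nat.Prime.factorization_pow (by norm_num), Nat.factorization_eq_zero_of_not_dvd (n := 1382400) (by norm_num)]
        simp
      rw [h3, pow_one] at h2
      exact h2
    exact isCyclic_of_prime_card (p := 13) h1
  obtain ⟨g, hg⟩ := exists_conj_mem hP hx (L := zpowers c) (by rw [Nat.card_zpowers, orderOf_c])
  refine Wit.of_equiv (MulAut.conj g) ?_
  have h : (MulAut.conj g) x = g * x * g⁻¹ := rfl
  have ho : orderOf (g * x * g⁻¹) = 13 := by
    rw [← h, ← hx]
    exact orderOf_injective (MulAut.conj g).toMonoidHom (MulAut.conj g).injective x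
  rw [h]
  refine Wit.of_zpowers ?_ wit_c
  refine Subgroup.eq_of_le_of_card_ge ?_ ?_
  · rw [zpowers_le]; exact hg
  · rw [Nat.card_zpowers, Nat.card_zpowers, ho, orderOf_c]

theorem wit_aux (T : Subgroup (GL I52 (ZMod 2))) (hT : T = H0) :
    ∀ y : ↥(_root_.commutator T), orderOf y = 5 ∨ orderOf y = 13 → Wit y := by
  subst hT
  intro y hy
  rcases hy with hy | hy
  · exact wit_five hy
  · exact wit_thirteen hy

end Model

theorem wit_of {G K : Type*} [Group G] [Group K] (T : Subgroup G)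
    (hT : ∀ y : ↥(_root_.commutator T), orderOf y = 5 ∨ orderOf y = 13 → Wit y) (e : K ≃* ↥(_root_.commutator T))
    {y : K} (hy : orderOf y = 5 ∨ orderOf y = 13) : Wit y := by
  have h1 : orderOf (e y) = orderOf y := MulEquiv.orderOf_eq e y
  exact (hT (e y) (by rw [h1]; exact hy)).of_equiv e

theorem wit_iso {K : Type*} [Group K] (h : Lie.IsoTits K) {y : K} (hy : orderOf y = 5 ∨ orderOf y = 13) :
    Wit y := by
  obtain ⟨T, hT, ⟨e⟩⟩ := Cfsg.Agent.Omega.TwoF.TitsAut.exists_equiv h
  exact wit_of T (wit_aux T hT) e hy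

/-- **the row of the Tits group** -/
theorem noya_tits {K : Type*} [Group K] [Finite K] [IsSimpleGroup K] {p : ℕ} [Fact p.Prime]
    (h : Cfsg.Lie.IsoTits K) (hp : 5 ≤ p) : NoYA p K := by
  intro x hx _ hY
  have ho := Cfsg.Agent.CpAutTits.Row.out h
  obtain ⟨y, rfl⟩ := Cfsg.Agent.CpAutTits.Row.autInner h (Fact.out : p.Prime) (by omega) x hx
  have hc := Cfsg.Agent.CpAutTits.Row.center_bot ho
  have hy : orderOf y = p := by rw [← Cfsg.Agent.CpAut.orderOf_conj hc y, hx]
  have hdvd : p ∣ 2 ^ 11 * 3 ^ 3 * 5 ^ 2 * 13 := by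
    rw [← ho.card, ← hy]
    exact orderOf_dvd_natCard y
  have hp' : p.Prime := Fact.out
  have hcases : p = 5 ∨ p = 13 := by
    rcases (Nat.Prime.dvd_mul hp').1 hdvd with h1 | h1
    · rcases (Nat.Prime.dvd_mul hp').1 h1 with h1 | h1
      · rcases (Nat.Prime.dvd_mul hp').1 h1 with h1 | h1
        · have := (Nat.prime_dvd_prime_iff_eq hp' Nat.prime_two).1 (hp'.dvd_of_dvd_pow h1)
          omega
        · have := (Nat.prime_dvd_prime_iff_eq hp' Nat.prime_three).1 (hp'.dvd_of_dvd_pow h1)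
          omega
      · exact Or.inl ((Nat.prime_dvd_prime_iff_eq hp' (by norm_num)).1 (hp'.dvd_of_dvd_pow h1))
    · exact Or.inr ((Nat.prime_dvd_prime_iff_eq hp' (by norm_num)).1 h1)
  exact (wit_iso h (by rw [hy]; exact hcases)).not_ye (p := p) (by omega) (YE.of_ya hc hY)

end Cfsg.Agent.H980.NoYATits
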