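import Cfsg.Agent.H980.ESTw
import Cfsg.Agent.H667.Four.ESLin
import Cfsg.Agent.H264.ES.Sp
import Cfsg.Agent.H264.ES.Orth
import Cfsg.Agent.H316.ES.Exc
import Cfsg.Agent.S0000
import Cfsg.Agent.S0205
import Cfsg.Agent.S0252
import Cfsg.Agent.S0254

/-!
# S4773: the assembly of `FactES` (helper980)

`factES` : `FactES`, from the rows of helper667 (`PSL`, `PSU`), helper264 (`PSp`, `PΩ`), helper316 (`G₂`, `F₄`, `E`,
`²E₆`) and `ESTw` (`Sz`, `²G₂`, `²F₄`, `³D₄`), `BpSpor` (the Tits group), `H566` (sporadic groups), `CpAut` (alternating).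
-/

set_option autoImplicit false

namespace Cfsg.Agent.H980.ES

open Cfsg Cfsg.Lie Cfsg.Agent.H672.Four

universe u

theorem two_dvd {S : Type u} [Group S] [Finite S] [IsSimpleGroup S] (hna : ¬ IsMulCommutative S) :
    2 ∣ Nat.card S := by
  by_contra h2
  have hs : Group.IsSolvable S := Cfsg.Agent.S0205.result (Nat.not_even_iff_odd.1 fun h3 => h2 (even_iff_two_dvd.1 h3))
  exact hna ⟨⟨fun a b => IsSimpleGroup.comm_iff_isSolvable.2 hs a b⟩⟩

/-- alternating groups -/
theorem row_alt {S : Type u} [Group S] [Finite S] [IsSimpleGroup S] (hna : ¬ IsMulCommutative S)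
    (h : IsAlternating S) : ∃ s : S, ES s := by
  have h2 := two_dvd hna
  obtain ⟨n, hn, ⟨e⟩⟩ := h
  rcases Nat.lt_or_ge n 7 with h7 | h7
  · have hn' : n = 5 ∨ n = 6 := by omega
    rcases hn' with rfl | rfl
    · let i1 : Fintype (GaloisField 2 2) := Fintype.ofFinite _
      have hc : Fintype.card (GaloisField 2 2) = 4 := by
        rw [← Nat.card_eq_fintype_card, GaloisField.card 2 2 (by norm_num)]; norm_num
      obtain ⟨f⟩ := Cfsg.Agent.S0252.result hc
      exact Cfsg.Agent.H667.Four.es_psl hna ⟨GaloisField 2 2, inferInstance, inferInstance, 2, le_rfl,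
        fun _ => (by rw [hc]; try norm_num), ⟨e.trans f.symm⟩⟩
    · let i1 : Fintype (GaloisField 3 2) := Fintype.ofFinite _
      have hc : Fintype.card (GaloisField 3 2) = 9 := by
        rw [← Nat.card_eq_fintype_card, GaloisField.card 3 2 (by norm_num)]; norm_num
      obtain ⟨f⟩ := Cfsg.Agent.S0254.result hc
      exact Cfsg.Agent.H667.Four.es_psl hna ⟨GaloisField 3 2, inferInstance, inferInstance, 2, le_rfl,
        fun _ => (by rw [hc]; try norm_num), ⟨e.trans f.symm⟩⟩
  · exact ⟨1, of_oddInn (Cfsg.Agent.BpSpor.Inn.OddInn.congr e fun p hp hp2 => Cfsg.Agent.CpAut.autInner_alt h7 hp hp2)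
      h2 1⟩

/-- **`FactES`** -/
theorem factES : FactES.{u} := by
  intro S _ _ _ hna
  have h2 := two_dvd hna
  rcases Cfsg.Agent.S0000.result (G := S) with h | h | h | h | h | h | h | h | h | h
  · exfalso
    have hf : Fact (Nat.card S).Prime := ⟨h⟩
    have hc : IsCyclic S := isCyclic_of_prime_card (p := Nat.card S) rfl
    obtain ⟨g, hg⟩ := hc.exists_generator
    exact hna ⟨⟨fun a b => by
      obtain ⟨i, rfl⟩ := hg a
      obtain ⟨j, rfl⟩ := hg b
      exact zpow_mul_comm g i j⟩⟩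
  · exact row_alt hna h
  · exact Cfsg.Agent.H667.Four.es_psl hna h
  · exact Cfsg.Agent.H264.ES.es_psp h
  · exact Cfsg.Agent.H667.Four.es_psu hna h
  · exact Cfsg.Agent.H264.ES.es_oodd h
  · exact Cfsg.Agent.H264.ES.es_oplus h
  · exact Cfsg.Agent.H264.ES.es_ominus h
  · rcases h with h | h | h | h | h | h | h | h | h | h | h
    · exact Cfsg.Agent.H316.ES.es_g2 h
    · exact Cfsg.Agent.H316.ES.es_f4 h
    · exact Cfsg.Agent.H316.ES.es_e6 h
    · exact Cfsg.Agent.H316.ES.es_e7 h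
    · exact Cfsg.Agent.H316.ES.es_e8 h
    · exact Cfsg.Agent.H316.ES.es_2e6 h
    · exact row_3d4 h
    · exact row_suzuki h2 h
    · exact row_ree h2 h
    · exact row_2f4 h
    · exact ⟨1, of_oddInn (Cfsg.Agent.BpSpor.Inn.tits h) h2 1⟩
  · exact ⟨1, of_oddInn (Cfsg.Agent.H566.oddInn_sporadic h) h2 1⟩

end Cfsg.Agent.H980.ES
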