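import Cfsg.Agent.H773.Pw.Spor
import Cfsg.Agent.H836.Main
import Cfsg.Agent.H839.Count
import Cfsg.Agent.S1696

/-!
# S2454: the row `Fi22` (helper980, task 3455)
-/

set_option autoImplicit false

namespace Cfsg.Agent.H980.PwFi22

open Subgroup Cfsg Cfsg.Agent.H514.DP Cfsg.Agent.H773.Pw
open Cfsg.Agent.H836.Main (centralizer_zpowers thirteen_concl card_normalizer_eleven)
open Cfsg.Spor (Fi22)

instance simple : IsSimpleGroup Fi22 := Cfsg.Agent.S1696.result.1

theorem card_fi22 : Nat.card Fi22 = 64561751654400 := Cfsg.Agent.S1696.result.2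

instance finite : Finite Fi22 := Nat.finite_of_card_ne_zero (by rw [card_fi22]; norm_num)

theorem na : ¬ ∀ a b : Fi22, a * b = b * a :=
  Cfsg.Agent.H253.TC.not_comm_of_card (n := 64561751654400) card_fi22 (by norm_num) (p := 13) (by norm_num)
    (by norm_num) (by norm_num)

theorem inv : Cfsg.Agent.H836.Inv Fi22 (Cfsg.Agent.KFacts.FiTT.TK (MulEquiv.refl Fi22)) :=
  Cfsg.Agent.H836.inv_of_iso (MulEquiv.refl Fi22)

/-- the index of the centralizer in the normalizer -/
theorem relIndex_eq {G : Type*} [Group G] [Finite G] {X : Subgroup G} {c e : ℕ} (hc0 : 0 < c)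
    (hc : Nat.card (centralizer (X : Set G)) = c) (hn : Nat.card (normalizer (X : Set G)) = c * e) :
    (centralizer (X : Set G)).relIndex (normalizer (X : Set G)) = e := by
  have h := Cfsg.Agent.H839.Count.relIndex_mul_card' (centralizer_le_normalizer (X : Set G))
  rw [hc, hn, mul_comm] at h
  exact Nat.eq_of_mul_eq_mul_left hc0 h

section

variable {y : Fi22}

theorem ne_one {l : ℕ} (hl : 1 < l) (hy : orderOf y = l) : y ≠ 1 := by
  rintro rfl
  rw [orderOf_one] at hy
  omega

theorem cent7 (hy : orderOf y = 7) : Nat.card (centralizer ({y} : Set Fi22)) = 42 :=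
  inv.card_seven (by rw [← hy]; exact pow_orderOf_eq_one y) (ne_one (by norm_num) hy)

theorem cent11 (hy : orderOf y = 11) : Nat.card (centralizer ({y} : Set Fi22)) = 22 :=
  inv.card_eleven (by rw [← hy]; exact pow_orderOf_eq_one y) (ne_one (by norm_num) hy)

theorem norm11 (hy : orderOf y = 11) : Nat.card (normalizer ((zpowers y : Subgroup Fi22) : Set Fi22)) = 22 * 5 :=
  card_normalizer_eleven inv (by rw [Nat.card_zpowers, hy])

theorem cent13 (hy : orderOf y = 13) : Nat.card (centralizer ((zpowers y : Subgroup Fi22) : Set Fi22)) = 13 ∧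
    Nat.card (normalizer ((zpowers y : Subgroup Fi22) : Set Fi22)) = 13 * 6 := by
  obtain ⟨h1, h2⟩ := (thirteen_concl (MulEquiv.refl Fi22)).2 (zpowers y) (by rw [Nat.card_zpowers, hy])
  exact ⟨by rw [h2, Nat.card_zpowers, hy], h1⟩

end

theorem minDeg : MinDeg Fi22 7 :=
  minDeg_of_prime (n := 64561751654400) card_fi22 (by norm_num) (l := 13) (by norm_num) (by norm_num) (by norm_num)
    (by norm_num) (by norm_num) (by norm_num) (by norm_num)

theorem pw_thirteen {p : ℕ} (hp : p.Prime) (h6 : p ∣ 6) : PW p 70 Fi22 := by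
  obtain ⟨y, hy⟩ := exists_order (K := Fi22) (l := 13) (by norm_num) (by rw [card_fi22]; norm_num)
  obtain ⟨h1, h2⟩ := cent13 hy
  exact pw_of_norm na hp (l := 13) (by norm_num) hy (by rw [relIndex_eq (by norm_num) h1 h2]; exact h6) minDeg
    (c := 13) (by rw [← centralizer_zpowers, h1]) (k := 6) (by norm_num) (by norm_num) (by norm_num)

theorem pw_model {p : ℕ} (hp : p.Prime) (hd : p ∣ Nat.card Fi22) : PW p 70 Fi22 := by
  have h : p ∣ 2 ^ 17 * 3 ^ 9 * 5 ^ 2 * 7 * 11 * 13 := by
    rw [card_fi22] at hd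
    exact hd.trans (by norm_num)
  simp only [hp.dvd_mul] at h
  rcases h with ((((h | h) | h) | h) | h) | h
  · obtain rfl := (Nat.prime_dvd_prime_iff_eq hp Nat.prime_two).1 (hp.dvd_of_dvd_pow h)
    exact pw_thirteen hp (by norm_num)
  · obtain rfl := (Nat.prime_dvd_prime_iff_eq hp Nat.prime_three).1 (hp.dvd_of_dvd_pow h)
    exact pw_thirteen hp (by norm_num)
  · obtain rfl := (Nat.prime_dvd_prime_iff_eq hp Nat.prime_five).1 (hp.dvd_of_dvd_pow h)
    obtain ⟨y, hy⟩ := exists_order (K := Fi22) (l := 11) (by norm_num) (by rw [card_fi22]; norm_num)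
    have h1 := cent11 hy
    exact pw_of_norm na hp (l := 11) (by norm_num) hy
      (by rw [relIndex_eq (by norm_num) (by rw [centralizer_zpowers, h1]) (norm11 hy)]) minDeg h1.le (k := 10)
      (by norm_num) (by norm_num) (by norm_num)
  · obtain rfl := (Nat.prime_dvd_prime_iff_eq hp (by norm_num)).1 h
    exact pw_of_order na hp hd minDeg (c := 42) (fun y hy => (cent7 hy).le) (k := 44) (by norm_num) (by norm_num)
      (by norm_num)
  · obtain rfl := (Nat.prime_dvd_prime_iff_eq hp (by norm_num)).1 h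
    exact pw_of_order na hp hd minDeg (c := 22) (fun y hy => (cent11 hy).le) (k := 10) (by norm_num) (by norm_num)
      (by norm_num)
  · obtain rfl := (Nat.prime_dvd_prime_iff_eq hp (by norm_num)).1 h
    exact pw_of_order na hp hd minDeg (c := 13) (fun y hy => by rw [← centralizer_zpowers, (cent13 hy).1]) (k := 6)
      (by norm_num) (by norm_num) (by norm_num)

/-- **`Fi22`** -/
theorem pw_fi22 {S : Type*} [Group S] (h : Spor.IsoFi22 S) {p : ℕ} (hp : p.Prime) (hd : p ∣ Nat.card S) :
    PW p 70 S := by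
  obtain ⟨e⟩ := h
  exact (pw_model hp (by rwa [← Nat.card_congr e.toEquiv])).congr e.symm

end Cfsg.Agent.H980.PwFi22
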