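import Cfsg.Agent.H980.ExtBase
import Cfsg.Agent.H597.L2Char
import Cfsg.Agent.H664.R1.PSLTwo
import Cfsg.Agent.ClassicalGeometry.PSL2Solvable

/-!
# S4832: the row `PSL₂(q)`, `p` different from the characteristic (helper980)

`row_psl2`.
-/

set_option autoImplicit false
set_option linter.unusedSectionVars false

namespace Cfsg.Agent.H980.Ext.PslTwo

open Matrix Cfsg Cfsg.Agent.Characters.Core Cfsg.Agent.H597.L2Aut
open Cfsg.Agent.Blocks.Basic (charDegree_of_eq irr_one_eq_charDegree charDegree_pos)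
open Cfsg.Agent.ClassicalGeometry.AutPSL.Root (pr pr_surjective pr_eq_one_iff)
open Cfsg.Agent.ClassicalGeometry.AutPSL.Auto (cj fld lift lift_pr coe_cj coe_fld_apply)

section

variable {F : Type*} [Field F] [Fintype F]

local notation "PSL" => Matrix.ProjectiveSpecialLinearGroup (Fin 2) F
local notation "SL" => Matrix.SpecialLinearGroup (Fin 2) F
local notation "M₂" => Matrix (Fin 2) (Fin 2) F

theorem inner_of_sq {A : GL (Fin 2) F} (h : IsSquare (A : M₂).det) :
    ∃ s : PSL, (lift (cj A) : MulAut PSL) = MulAut.conj s := by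
  obtain ⟨B, hB⟩ := exists_inner A h
  exact ⟨pr B, by rw [hB, lift_conj]⟩

theorem form_one {b : MulAut PSL} (h : fp b = 1) : ∃ A : GL (Fin 2) F, b = lift (cj A) := by
  obtain ⟨A, hA⟩ := exists_form b
  rw [h, map_one, mul_one] at hA
  exact ⟨A, hA⟩

/-- `T` without diagonal automorphisms: `T / Inn` is cyclic -/
theorem gen_field (T : Subgroup (MulAut PSL))
    (hd : ∀ A : GL (Fin 2) F, (lift (cj A) : MulAut PSL) ∈ T → IsSquare (A : M₂).det) :
    ∃ a ∈ T, ∀ b ∈ T, ∃ (k : ℤ) (s : PSL), b = MulAut.conj s * a ^ k := by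
  have hcyc : IsCyclic (F ≃+* F) := isCyclic_ringEquiv F
  have hcyc' : IsCyclic ((fp (F := F)).comp T.subtype).range := inferInstance
  obtain ⟨g, hg⟩ := hcyc'.exists_generator
  obtain ⟨_, ⟨a, rfl⟩⟩ := g
  refine ⟨a, a.2, fun b hb => ?_⟩
  obtain ⟨k, hk⟩ := Subgroup.mem_zpowers_iff.1 (hg ⟨_, ⟨⟨b, hb⟩, rfl⟩⟩)
  have h1 : fp (a : MulAut PSL) ^ k = fp b := congrArg Subtype.val hk
  have h2 : fp (b * ((a : MulAut PSL) ^ k)⁻¹) = 1 := by
    rw [map_mul, map_inv, map_zpow, h1, mul_inv_cancel]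
  obtain ⟨A, hA⟩ := form_one h2
  have h3 : (lift (cj A) : MulAut PSL) ∈ T := by
    rw [← hA]
    exact T.mul_mem hb (T.inv_mem (T.zpow_mem a.2 k))
  obtain ⟨s, hs⟩ := inner_of_sq (hd A h3)
  refine ⟨k, s, ?_⟩
  rw [← hs, ← hA, inv_mul_cancel_right]

theorem det_ne (A : GL (Fin 2) F) : (A : M₂).det ≠ 0 := by
  have := (Matrix.isUnit_iff_isUnit_det (A : M₂)).1 A.isUnit
  exact this.ne_zero

/-- `T` without field automorphisms: `T / Inn` has order at most two -/
theorem gen_diag (T : Subgroup (MulAut PSL)) (hf : ∀ b ∈ T, fp b = 1) :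
    ∃ a ∈ T, ∀ b ∈ T, ∃ (k : ℤ) (s : PSL), b = MulAut.conj s * a ^ k := by
  classical
  by_cases hd : ∀ A : GL (Fin 2) F, (lift (cj A) : MulAut PSL) ∈ T → IsSquare (A : M₂).det
  · exact gen_field T hd
  push Not at hd
  obtain ⟨A, hA, hAsq⟩ := hd
  refine ⟨_, hA, fun b hb => ?_⟩
  obtain ⟨B, rfl⟩ := form_one (hf b hb)
  by_cases hB : IsSquare (B : M₂).det
  · obtain ⟨s, hs⟩ := inner_of_sq hB
    exact ⟨0, s, by rw [zpow_zero, mul_one, hs]⟩
  · have h1 : IsSquare ((B * A⁻¹ : GL (Fin 2) F) : M₂).det := by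
      have h2 : ((B * A⁻¹ : GL (Fin 2) F) : M₂).det = (B : M₂).det * ((A : M₂).det)⁻¹ := by
        have h3 : (B * A⁻¹ : GL (Fin 2) F) * A = B := inv_mul_cancel_right B A
        have h4 := congrArg (fun C : GL (Fin 2) F => (C : M₂).det) h3
        simp only [Units.val_mul, Matrix.det_mul] at h4 ⊢
        exact (eq_mul_inv_iff_mul_eq₀ (det_ne A)).2 h4
      rw [h2]
      have h5 : ¬ IsSquare ((A : M₂).det)⁻¹ := by rwa [isSquare_inv]
      rw [← quadraticChar_neg_one_iff_not_isSquare] at hB h5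
      have h6 : quadraticChar F ((B : M₂).det * ((A : M₂).det)⁻¹) = 1 := by
        rw [map_mul, hB, h5]; norm_num
      exact (quadraticChar_one_iff_isSquare (mul_ne_zero (det_ne B) (inv_ne_zero (det_ne A)))).1 h6
    obtain ⟨s, hs⟩ := inner_of_sq h1
    refine ⟨1, s, ?_⟩
    rw [zpow_one, ← hs, ← map_mul, ← map_mul, inv_mul_cancel_right]

theorem simple (h4 : 4 ≤ Fintype.card F) : IsSimpleGroup PSL :=
  Matrix.ProjectiveSpecialLinearGroup.rank_two_simple (by rwa [Nat.card_eq_fintype_card])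

theorem not_comm (h4 : 4 ≤ Fintype.card F) : ¬ IsMulCommutative PSL := by
  intro h
  apply Cfsg.Agent.ClassicalGeometry.PSL2Solvable.not_isSolvable_psl F h4
  exact Group.isSolvable_of_comm fun a b => h.is_comm.comm a b

/-- field parts of the stabilizer -/
theorem fp_eq_one {q₀ a m : ℕ} [Fact q₀.Prime] [CharP F q₀] (ha : Fintype.card F = q₀ ^ a) (hq : Fintype.card F = 2 * m + 1)
    {M : ℕ} (hM : 2 * m + 4 < 3 * M) {T : Subgroup (MulAut PSL)}
    (h : ∀ (A : GL (Fin 2) F) (σ : F ≃+* F) (i : ℕ), (∀ a, σ a = a ^ q₀ ^ i) → (lift (cj A * fld σ) : MulAut PSL) ∈ T →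
      M ∣ q₀ ^ i - 1 ∨ M ∣ q₀ ^ i + 1) : ∀ b ∈ T, fp b = 1 := by
  intro b hb
  obtain ⟨A, hA⟩ := exists_form b
  obtain ⟨i, hi, hσ⟩ := exists_frob ha (fp b)
  rw [hA] at hb
  have hp3 : 3 ≤ q₀ := by
    have h2 := (Fact.out : q₀.Prime).two_le
    rcases Nat.lt_or_ge q₀ 3 with h3 | h3
    · exfalso
      have h5 : q₀ = 2 := by omega
      have ha0 : a ≠ 0 := by
        rintro rfl
        have := Fintype.one_lt_card (α := F)
        rw [ha, pow_zero] at this
        omega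
      have h6 : 2 ∣ q₀ ^ a := by rw [h5]; exact dvd_pow_self 2 ha0
      omega
    · exact h3
  have h5 : q₀ ^ a = q₀ ^ (a - i) * q₀ ^ i := by rw [← pow_add]; congr 1; omega
  have h6 : 3 * q₀ ^ i ≤ q₀ ^ a := by
    rw [h5]
    apply Nat.mul_le_mul_right
    calc 3 ≤ q₀ := hp3
      _ = q₀ ^ 1 := (pow_one q₀).symm
      _ ≤ q₀ ^ (a - i) := Nat.pow_le_pow_right (by omega) (by omega)
  have h7 : 0 < q₀ ^ i := pow_pos (Fact.out : q₀.Prime).pos _
  have h8 : q₀ ^ i = 1 := by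
    rcases h A (fp b) i hσ hb with h9 | h9
    · rcases Nat.eq_zero_or_pos (q₀ ^ i - 1) with h10 | h10
      · omega
      · have := Nat.le_of_dvd h10 h9
        omega
    · have := Nat.le_of_dvd (by omega) h9
      omega
  ext x
  rw [hσ, h8, pow_one]
  rfl

/-- **the row `PSL₂(q)`, `q` even** -/
theorem row_even (h4 : 4 ≤ Fintype.card F) (he : Even (Fintype.card F)) {p : ℕ} [hp : Fact p.Prime]
    (hd : p ∣ Nat.card PSL) : RowE p PSL := by
  have := simple h4
  obtain ⟨χ, hχ⟩ := Cfsg.Agent.H664.R1.PSLTwo.im_psl h4 hp.out hd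
  refine ⟨χ, hχ, fun T hT => ext_of_gen (not_comm h4) χ T hT (gen_field T fun A _ => ?_)⟩
  have h2 : ringChar F = 2 := FiniteField.even_card_iff_char_two.2 (Nat.even_iff.1 he)
  exact FiniteField.isSquare_of_char_two h2 _

/-- **the row `PSL₂(q)`, `q` odd, `p` different from the characteristic** -/
theorem row_odd (h4 : 4 ≤ Fintype.card F) (ho : Odd (Fintype.card F)) {p : ℕ} [hp : Fact p.Prime]
    (hd : p ∣ Nat.card PSL) (hpF : ¬ p ∣ Fintype.card F) : RowE p PSL := by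
  classical
  have := simple h4
  obtain ⟨m, hq⟩ := ho
  obtain ⟨q₀, hq₀⟩ := CharP.exists F
  have hq₀p : Fact q₀.Prime := ⟨CharP.char_is_prime F q₀⟩
  obtain ⟨⟨a, ha0⟩, -, ha⟩ := FiniteField.card F q₀
  have ha : Fintype.card F = q₀ ^ a := ha
  have hfac : p ∣ 2 * m ∨ p ∣ 2 * m + 2 := by
    have h1 : p ∣ Fintype.card F * (Fintype.card F ^ 2 - 1) := by
      rw [← SmallSimple.PSLTwoPart.card_psl_two_odd (by rw [hq]; exact ⟨m, rfl⟩)]
      exact hd.mul_left _
    have h2 : Fintype.card F ^ 2 - 1 = (2 * m + 2) * (2 * m) := by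
      have := Nat.sq_sub_sq (Fintype.card F) 1
      rw [one_pow] at this
      rw [this, hq]
      rfl
    rw [h2] at h1
    rcases hp.out.dvd_mul.1 h1 with h | h
    · exact absurd h hpF
    · exact (hp.out.dvd_mul.1 h).symm
  by_cases h1 : p ∣ 2 * m
  · obtain ⟨θ, hθ, hdeg, hst⟩ := Cfsg.Agent.H597.L2Char.exists_X (F := F) (p := q₀) (m := m) (by omega) hq
    refine ⟨⟨θ, hθ⟩, by show p ∣ charDegree θ; rw [hdeg]; exact h1, fun T hT => ext_of_gen (not_comm h4) _ T hT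
      (gen_diag T (fp_eq_one ha hq (M := m + 1) (by omega) fun A σ i hσ hb => hst A σ i hσ ((hT _).1 hb)))⟩
  have h2 : p ∣ 2 * m + 2 := hfac.resolve_left h1
  have hp2 : p ≠ 2 := by
    rintro rfl
    exact h1 (dvd_mul_right 2 m)
  have h3 : p ∣ m + 1 := by
    have h4 : p ∣ 2 * (m + 1) := h2
    rcases hp.out.dvd_mul.1 h4 with h | h
    · exact absurd ((Nat.prime_dvd_prime_iff_eq hp.out Nat.prime_two).1 h) hp2
    · exact h
  rcases Nat.lt_or_ge 4 m with hm | hm
  · obtain ⟨θ, hθ, hdeg, hst⟩ := Cfsg.Agent.H597.L2Char.exists_R (F := F) (p := q₀) (m := m) (by omega) hq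
    refine ⟨⟨θ, hθ⟩, by show p ∣ charDegree θ; rw [hdeg]; exact h2, fun T hT => ext_of_gen (not_comm h4) _ T hT
      (gen_diag T (fp_eq_one ha hq (M := m) (by omega) fun A σ i hσ hb => hst A σ i hσ ((hT _).1 hb)))⟩
  · have hm2 : 2 ≤ m := by omega
    have hodd : Odd (m + 1) := by
      interval_cases m
      · decide
      · exfalso
        have h5 : p ∣ 2 ^ 2 := h3
        exact hp2 ((Nat.prime_dvd_prime_iff_eq hp.out Nat.prime_two).1 (hp.out.dvd_of_dvd_pow h5))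
      · decide
    obtain ⟨θ, hθ, hdeg⟩ := Cfsg.Agent.H597.L2Char.exists_half (F := F) hq (by omega) (Or.inr rfl) hodd
    refine ⟨⟨θ, hθ⟩, by show p ∣ charDegree θ; rw [hdeg]; exact h3, fun T hT => ext_of_gen (not_comm h4) _ T hT
      (gen_field T fun A hA => ?_)⟩
    by_contra hsq
    exact Cfsg.Agent.H597.L2Char.not_inv_of_not_square hq (by omega) hθ (Or.inr hdeg) hsq ((hT _).1 hA)

/-- **the row `PSL₂(q)`, `p` different from the characteristic** -/
theorem row_psl2 (h4 : 4 ≤ Fintype.card F) {p : ℕ} [hp : Fact p.Prime]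
    (hd : p ∣ Nat.card PSL) (hpF : ¬ p ∣ Fintype.card F) : RowE p PSL := by
  rcases Nat.even_or_odd (Fintype.card F) with h | h
  · exact row_even h4 h hd
  · exact row_odd h4 h hd hpF

end

end Cfsg.Agent.H980.Ext.PslTwo
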