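import Cfsg.Agent.H980.BisetGraph

/-!
# Characteristic bisets of saturated fusion systems (helper980)

`exists_biset`: a saturated fusion system over the finite `p`-group `S` has a finite `S × S`-set `X`
(`(a, b)` acting as `x ↦ a x b⁻¹`) all of whose stabilizers are graphs `{(a, σ a)}` of maps `σ` of the system,
with marks depending only on the left projection (right stability), and `|X| = |S| n` with `n` prime to `p`.
-/

set_option autoImplicit false

namespace Cfsg.Agent.H980

open Cfsg Cfsg.FusionSystem Cfsg.Agent.H802 MulAction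

universe u

variable {Ω : Type u} [Group Ω] {S : Subgroup Ω}

/-- `S` is fully automized. -/
theorem isFullyAutomized_self {p : ℕ} [Finite S] {F : FusionSystem S} (hF : F.IsSaturated p) :
    F.IsFullyAutomized p S := by
  obtain ⟨Q, hc, ha, -⟩ := hF S le_rfl
  have : Q = S := Subgroup.eq_of_le_of_card_ge ha.1 (isConj_card_eq hc).le
  rwa [this] at ha

/-- The stabilization data of a saturated fusion system. -/
def stabData {p : ℕ} [Fact p.Prime] [Finite S] (hS : IsPGroup p S)
    {F : FusionSystem S} (hF : F.IsSaturated p) : StabData (S × S) where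
  Gr := Gr F
  E := GrE F
  gr_mono _ _ h hM := gr_mono h hM
  gr_conj g _ hL := (gr_conj g hL).1
  e_refl L hL := ⟨hL, hL, 1, S.one_mem, (cj_one _).symm⟩
  e_symm L M h := by
    obtain ⟨h1, h2, s, hs, h⟩ := h
    refine ⟨h2, h1, s⁻¹, S.inv_mem hs, ?_⟩
    rw [h, cj_cj, inv_mul_cancel, cj_one]
  e_trans L M N h h' := by
    obtain ⟨h1, -, s, hs, h⟩ := h
    obtain ⟨-, h2, t, ht, h'⟩ := h'
    refine ⟨h1, h2, t * s, S.mul_mem ht hs, ?_⟩
    rw [h', h, cj_cj]
  e_left _ _ h := h.1
  e_card L M h := by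
    obtain ⟨h1, h2, s, hs, h⟩ := h
    rw [card_eq_of_gr h1, card_eq_of_gr h2, h, card_cj]
  e_conj g L hL := ⟨hL, (gr_conj g hL).1, g.1, g.1.2, (gr_conj g hL).2⟩
  exists_hom L hL := exists_hom_of_saturated hS hF L hL

theorem card_dvd_of_stabilizer {p : ℕ} [Fact p.Prime] [Finite S] (hS : IsPGroup p S) (Y : Type*)
    [MulAction (S × S) Y] [Finite Y]
    (h : ∀ y : Y, Nat.card (stabilizer (S × S) y) < Nat.card S) :
    p * Nat.card S ∣ Nat.card Y := by
  classical
  obtain ⟨s, hs⟩ := (IsPGroup.iff_card).1 hS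
  have hD : Nat.card (S × S) = p ^ (2 * s) := by
    rw [Nat.card_prod, hs, ← pow_add, two_mul]
  have hDp : IsPGroup p (S × S) := IsPGroup.of_card hD
  have horb : ∀ y : Y, p * Nat.card S ∣ Nat.card (orbit (S × S) y) := by
    intro y
    obtain ⟨j, hj⟩ := (IsPGroup.iff_card).1 (hDp.to_subgroup (stabilizer (S × S) y))
    have h1 := h y
    rw [hj, hs] at h1
    have h2 : j < s := (Nat.pow_lt_pow_iff_right (Fact.out : p.Prime).one_lt).1 h1
    have h3 : Nat.card (orbit (S × S) y) * Nat.card (stabilizer (S × S) y) = Nat.card (S × S) := by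
      rw [← Nat.card_prod]
      exact Nat.card_congr (orbitProdStabilizerEquivGroup (S × S) y)
    rw [hj, hD] at h3
    have h4 : Nat.card (orbit (S × S) y) = p ^ (2 * s - j) := by
      have h5 : p ^ (2 * s) = p ^ (2 * s - j) * p ^ j := by
        rw [← pow_add]
        congr 1
        omega
      rw [h5] at h3
      exact Nat.eq_of_mul_eq_mul_right (pow_pos (Fact.out : p.Prime).pos j) h3
    rw [h4, hs, ← pow_succ']
    exact pow_dvd_pow p (by omega)
  have e := Nat.card_congr (selfEquivSigmaOrbits' (S × S) Y)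
  have : Fintype (Quotient (orbitRel (S × S) Y)) := Fintype.ofFinite _
  rw [e, Nat.card_sigma]
  refine Finset.dvd_sum fun ω _ => ?_
  induction ω using Quotient.inductionOn' with
  | h y =>
    have := horb y
    rwa [← orbitRel.Quotient.orbit_mk y] at this

/-! ### The top level -/

/-- The inner automorphisms inside `Aut_F(S)`. -/
def innIn (F : FusionSystem S) : Subgroup (F.autGroup S) :=
  (autInducedBy S S).subgroupOf (F.autGroup S)

theorem mem_innIn {F : FusionSystem S} {α : F.autGroup S} :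
    α ∈ innIn F ↔ ∃ g : S, ∀ x : S, (α : MulAut S) x = g * x * g⁻¹ := by
  show (α : MulAut S) ∈ autInducedBy S S ↔ _
  rw [mem_autInducedBy_iff]
  constructor
  · rintro ⟨g, hg, h⟩
    exact ⟨⟨g, hg⟩, fun x => Subtype.ext (h x)⟩
  · rintro ⟨g, h⟩
    exact ⟨g, g.2, fun x => congrArg Subtype.val (h x)⟩

theorem innIn_normal (F : FusionSystem S) : (innIn F).Normal := by
  refine ⟨fun α hα β => ?_⟩
  obtain ⟨g, hg⟩ := mem_innIn.1 hα
  rw [mem_innIn]
  refine ⟨(β : MulAut S) g, fun x => ?_⟩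
  show (β : MulAut S) ((α : MulAut S) (((β : MulAut S)⁻¹) x)) = _
  rw [hg, map_mul, map_mul, map_inv]
  have : (β : MulAut S) (((β : MulAut S)⁻¹) x) = x := (β : MulAut S).apply_symm_apply x
  rw [this]

/-- The underlying set `Out_F(S) × S` of the top biset. -/
@[ext] structure TopSet (F : FusionSystem S) : Type u where
  /-- the class in `Out_F(S)` -/
  q : F.autGroup S ⧸ innIn F
  /-- the element of `S` -/
  x : S

/-- The representative in `Aut_F(S)` of the class of a point of the top biset. -/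
noncomputable def TopSet.aut {F : FusionSystem S} (z : TopSet F) : MulAut S :=
  ((z.q.out : F.autGroup S) : MulAut S)

noncomputable instance topAction (F : FusionSystem S) : MulAction (S × S) (TopSet F) where
  smul g z := ⟨z.q, g.1 * z.x * z.aut (g.2)⁻¹⟩
  one_smul z := by
    refine TopSet.ext rfl ?_
    show (1 : S) * z.x * z.aut (1 : S)⁻¹ = z.x
    rw [inv_one, map_one, one_mul, mul_one]
  mul_smul g h z := by
    refine TopSet.ext rfl ?_
    show (g.1 * h.1) * z.x * z.aut (g.2 * h.2)⁻¹ =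
      g.1 * (h.1 * z.x * z.aut (h.2)⁻¹) * z.aut (g.2)⁻¹
    rw [mul_inv_rev, map_mul]
    simp only [mul_assoc]

instance topFinite [Finite S] (F : FusionSystem S) : Finite (TopSet F) := by
  have : Finite (MulAut S) := inferInstance
  refine Finite.of_injective (fun z : TopSet F => (z.q, z.x)) ?_
  intro z w h
  exact TopSet.ext (congrArg Prod.fst h) (congrArg Prod.snd h)

theorem card_topSet (F : FusionSystem S) :
    Nat.card (TopSet F) = Nat.card S * (innIn F).index := by
  rw [Subgroup.index, mul_comm, ← Nat.card_prod]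
  refine Nat.card_congr ⟨fun z => (z.q, z.x), fun z => ⟨z.1, z.2⟩, fun z => rfl, fun z => rfl⟩

theorem top_fix_iff (F : FusionSystem S) (a b : S) (z : TopSet F) :
    ((a, b) : S × S) • z = z ↔ z.aut b = z.x⁻¹ * a * z.x := by
  have e : ((a, b) : S × S) • z = ⟨z.q, a * z.x * z.aut b⁻¹⟩ := rfl
  rw [e]
  constructor
  · intro h
    have h2 : a * z.x * z.aut b⁻¹ = z.x := congrArg TopSet.x h
    rw [map_inv, mul_inv_eq_iff_eq_mul] at h2
    rw [mul_assoc, h2, inv_mul_cancel_left]
  · intro h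
    refine TopSet.ext rfl ?_
    show a * z.x * z.aut b⁻¹ = z.x
    rw [map_inv, h]
    group

theorem top_stabilizer (F : FusionSystem S) (z : TopSet F) : Gr F (stabilizer (S × S) z) := by
  have hαm : z.aut ∈ F.autGroup S := (z.q.out).2
  let γ : MulAut S := z.aut⁻¹ * MulAut.conj z.x⁻¹
  have hγ : γ ∈ F.autGroup S := by
    refine (F.autGroup S).mul_mem ((F.autGroup S).inv_mem hαm) ?_
    refine autInducedBy_le_autGroup F le_rfl ?_
    rw [mem_autInducedBy_iff]
    exact ⟨(z.x⁻¹ : S), (z.x⁻¹).2, fun x => rfl⟩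
  refine ⟨S, _, (mem_autGroup_iff F le_rfl γ).1 hγ, ?_⟩
  ext ⟨a, b⟩
  rw [mem_stabilizer_iff, top_fix_iff, mem_graphSub]
  constructor
  · intro h
    refine ⟨a.2, ?_⟩
    show (b : Ω) = ((γ ⟨a, a.2⟩ : S) : Ω)
    have h1 : γ a = b := by
      show z.aut⁻¹ (z.x⁻¹ * a * z.x⁻¹⁻¹) = b
      rw [inv_inv, ← h]
      exact z.aut.symm_apply_apply b
    rw [← h1]
  · rintro ⟨h1, h2⟩
    have h3 : b = γ a := Subtype.ext h2
    rw [h3]
    show z.aut (z.aut⁻¹ (z.x⁻¹ * a * z.x⁻¹⁻¹)) = z.x⁻¹ * a * z.x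
    rw [inv_inv]
    exact z.aut.apply_symm_apply _

theorem top_mark [Finite S] {F : FusionSystem S} {L : Subgroup (S × S)} (hL : Gr F L)
    (hc : Nat.card S ≤ Nat.card L) :
    mark (TopSet F) L = Nat.card (Subgroup.center S) := by
  obtain ⟨R, σ, hσ, rfl⟩ := hL
  have hRS : R = S := by
    have h1 := card_eq_of_gr (F := F) (L := graphSub S σ) ⟨R, σ, hσ, rfl⟩
    rw [dom_graphSub hσ] at h1
    exact Subgroup.eq_of_le_of_card_ge (hom_le hσ) (hc.trans h1.le)
  subst hRS
  have hr : σ.range = R := range_eq_of_mapsTo hσ (hom_apply_mem hσ)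
  obtain ⟨α, hα, hαe⟩ := exists_aut hσ hr
  have hfix : ∀ z : TopSet F, (∀ g ∈ graphSub R σ, g • z = z) ↔
      ∀ a : R, z.aut (α a) = z.x⁻¹ * a * z.x := by
    intro z
    constructor
    · intro h a
      rw [← top_fix_iff]
      refine h _ ⟨a.2, ?_⟩
      exact hαe a
    · rintro h ⟨a, b⟩ ⟨h1, h2⟩
      rw [top_fix_iff, ← h a]
      congr 1
      apply Subtype.ext
      rw [hαe]
      exact h2
  have hN := innIn_normal F
  let A : F.autGroup R := ⟨α, hα⟩
  let q₀ : F.autGroup R ⧸ innIn F := ((A⁻¹ : F.autGroup R) : F.autGroup R ⧸ innIn F)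
  obtain ⟨ι, hι⟩ := QuotientGroup.mk_out_eq_mul (innIn F) A⁻¹
  have hq₀ : (q₀.out : F.autGroup R) = A⁻¹ * ι := hι
  have h1 : A⁻¹ * ι * A ∈ innIn F := by
    have := hN.conj_mem ι ι.2 A⁻¹
    simpa using this
  obtain ⟨y, hy⟩ := mem_innIn.1 h1
  have hyα : ∀ a : R, ((q₀.out : F.autGroup R) : MulAut R) (α a) = y * a * y⁻¹ := by
    intro a
    rw [hq₀, ← hy a]
    rfl
  have key : ∀ z : TopSet F, (∀ a : R, z.aut (α a) = z.x⁻¹ * a * z.x) → z.q = q₀ := by
    intro z hz
    have h2 : (z.q.out : F.autGroup R) * A ∈ innIn F := by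
      rw [mem_innIn]
      refine ⟨z.x⁻¹, fun a => ?_⟩
      rw [inv_inv, ← hz a]
      rfl
    have h3 : A * (z.q.out : F.autGroup R) ∈ innIn F := by
      have := hN.conj_mem _ h2 A
      have e : A * ((z.q.out : F.autGroup R) * A) * A⁻¹ = A * (z.q.out : F.autGroup R) := by group
      rwa [e] at this
    have h4 : ((z.q.out : F.autGroup R) : F.autGroup R ⧸ innIn F) = z.q := QuotientGroup.out_eq' _
    rw [← h4]
    show _ = ((A⁻¹ : F.autGroup R) : F.autGroup R ⧸ innIn F)
    rw [eq_comm, QuotientGroup.eq, inv_inv]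
    exact h3
  have hfix2 : ∀ z : TopSet F, (∀ g ∈ graphSub R σ, g • z = z) ↔
      z.q = q₀ ∧ y * z.x ∈ Subgroup.center R := by
    intro z
    rw [hfix]
    have h0 : z.q = q₀ → ((∀ a : R, z.aut (α a) = z.x⁻¹ * a * z.x) ↔
        y * z.x ∈ Subgroup.center R) := by
      intro hz
      have h2 : ∀ a, z.aut (α a) = y * a * y⁻¹ := by
        intro a
        rw [← hyα a, ← hz]
        rfl
      rw [Subgroup.mem_center_iff]
      constructor
      · intro h a
        have h3 := (h2 (z.x * a * z.x⁻¹)).symm.trans (h (z.x * a * z.x⁻¹))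
        have h4 : y * z.x * a * (y * z.x)⁻¹ = a := by
          have e1 : y * z.x * a * (y * z.x)⁻¹ = y * (z.x * a * z.x⁻¹) * y⁻¹ := by group
          rw [e1, h3]
          group
        calc a * (y * z.x) = (y * z.x * a * (y * z.x)⁻¹) * (y * z.x) := by rw [h4]
          _ = y * z.x * a := by group
      · intro h a
        rw [h2]
        have h3 := h (z.x⁻¹ * a * z.x)
        calc y * a * y⁻¹ = (y * z.x) * (z.x⁻¹ * a * z.x) * (y * z.x)⁻¹ := by group
          _ = (z.x⁻¹ * a * z.x) * (y * z.x) * (y * z.x)⁻¹ := by rw [← h3]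
          _ = z.x⁻¹ * a * z.x := by group
    constructor
    · intro h
      exact ⟨key z h, (h0 (key z h)).1 h⟩
    · rintro ⟨h, h'⟩
      exact (h0 h).2 h'
  unfold mark
  refine Nat.card_congr ⟨fun z => ⟨y * z.1.x, ((hfix2 z.1).1 z.2).2⟩,
    fun c => ⟨⟨q₀, y⁻¹ * c.1⟩, (hfix2 _).2 ⟨rfl, ?_⟩⟩, ?_, ?_⟩
  · show y * (y⁻¹ * c.1) ∈ _
    rw [mul_inv_cancel_left]
    exact c.2
  · intro z
    apply Subtype.ext
    refine TopSet.ext ((hfix2 z.1).1 z.2).1.symm ?_
    show y⁻¹ * (y * z.1.x) = z.1.x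
    group
  · intro c
    apply Subtype.ext
    show y * (y⁻¹ * c.1) = c.1
    group

/-- **Characteristic biset** (one sided version). -/
theorem exists_biset {p : ℕ} [Fact p.Prime] [Finite S] (hS : IsPGroup p S)
    {F : FusionSystem S} (hF : F.IsSaturated p) :
    ∃ (X : Type u) (_ : MulAction (S × S) X) (_ : Finite X),
      (∀ x : X, Gr F (stabilizer (S × S) x)) ∧
      (∀ L M, GrE F L M → mark X L = mark X M) ∧
      ∃ n : ℕ, Nat.card X = Nat.card S * n ∧ ¬ p ∣ n := by
  classical
  have hcard : ∀ L, Gr F L → Nat.card L ≤ Nat.card S := by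
    intro L hL
    rw [card_eq_of_gr hL]
    have : dom L ≤ S := by
      intro a ha
      exact (mem_dom.1 ha).1
    exact Subgroup.card_le_of_le this
  have hpos : 0 < Nat.card S := Nat.card_pos
  obtain ⟨Y, _, _, hY, hXY⟩ := exists_stabilize (stabData hS hF) (Nat.card S - 1) (TopSet F)
    (fun z => top_stabilizer F z) (fun L M h hk => by
      rw [top_mark h.1 (by omega), top_mark h.2.1 ?_]
      have := (stabData hS hF).e_card L M h
      omega)
  refine ⟨TopSet F ⊕ Y, inferInstance, inferInstance, ?_, ?_, ?_⟩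
  · rintro (z | y)
    · rw [stabilizer_inl]
      exact top_stabilizer F z
    · rw [stabilizer_inr]
      exact (hY y).1
  · intro L M h
    rw [mark_sum, mark_sum]
    exact hXY L M h
  · obtain ⟨m, hm⟩ := card_dvd_of_stabilizer hS Y (fun y => by
      have := (hY y).2
      omega)
    refine ⟨(innIn F).index + p * m, ?_, ?_⟩
    · rw [Nat.card_sum, card_topSet, hm]
      ring
    · intro hp
      have h1 : p ∣ (innIn F).index := (Nat.dvd_add_left (Dvd.intro _ rfl)).1 hp
      obtain ⟨-, R, hR⟩ := isFullyAutomized_self hF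
      have : Finite (MulAut S) := inferInstance
      have h2 := R.not_dvd_index
      rw [hR] at h2
      exact h2 h1

end Cfsg.Agent.H980
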