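import Cfsg.Agent.H672.Four.Interface
import Cfsg.Agent.H566.RowFld
import Cfsg.Agent.H566.SporAlt

/-!
# S4773: elements fixed by no coprime automorphism of prime order: tools (helper980)

* `ES.of_equiv`, `ES.of_inner` (every automorphism which fixes `s` is inner), `ES.one_of_oddInn`;
* `es_of_dat` : matrix groups whose automorphisms are inner times field automorphisms (`H566.RowFld.Dat`).
-/

set_option autoImplicit false

namespace Cfsg.Agent.H980.ES

open Cfsg Cfsg.Agent.H672.Four

section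

variable {S : Type*} [Group S]

theorem of_equiv {S' : Type*} [Group S'] (e : S ≃* S') {s : S} (h : ES (e s)) : ES s := by
  intro a ha hnd hs
  refine h (MulAut.congr e a) ?_ ?_ ?_
  · rw [MulEquiv.orderOf_eq]; exact ha
  · rw [MulEquiv.orderOf_eq, ← Nat.card_congr e.toEquiv]; exact hnd
  · show e (a (e.symm (e s))) = e s
    rw [e.symm_apply_apply, hs]

theorem exists_of_equiv {S' : Type*} [Group S'] (e : S ≃* S') (h : ∃ s : S', ES s) : ∃ s : S, ES s := by
  obtain ⟨s, hs⟩ := h
  refine ⟨e.symm s, of_equiv e ?_⟩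
  rwa [e.apply_symm_apply]

/-- an inner automorphism has order dividing `|S|` -/
theorem dvd_of_inner {a : MulAut S} (h : ∃ g, a = MulAut.conj g) : orderOf a ∣ Nat.card S := by
  obtain ⟨g, rfl⟩ := h
  exact (orderOf_map_dvd _ g).trans (orderOf_dvd_natCard g)

theorem of_inner {s : S} (h : ∀ a : MulAut S, a s = s → ∃ g, a = MulAut.conj g) : ES s :=
  fun a _ hnd hs => hnd (dvd_of_inner (h a hs))

/-- all automorphisms of odd prime order are inner -/
theorem of_oddInn (h : Cfsg.Agent.BpSpor.Inn.OddInn S) (h2 : 2 ∣ Nat.card S) (s : S) : ES s := by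
  intro a ha hnd _
  have h3 : orderOf a ≠ 2 := fun h3 => hnd (h3 ▸ h2)
  exact hnd (dvd_of_inner (h (orderOf a) ha h3 a rfl))

end

section dat

open Cfsg.Agent.H566 Cfsg.Agent.H566.RowFld Cfsg.Agent.H967.CopMat

variable {ι : Type*} [Fintype ι] [DecidableEq ι] {F : Type*} [Field F] {G : Subgroup (GL ι F)}

/-- **Elements of order `l` are moved by all coprime automorphisms.** -/
theorem es_of_dat [Fintype F] {r f l d : ℕ} (D : Dat G r f l d)
    (h : ∀ p : ℕ, p.Prime → ¬ p ∣ Nat.card ↥G → Fintype.card ι < p * d) {x : ↥G} (hx : orderOf x = l) : ES x := by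
  intro a ha hnd h2
  by_cases hin : ∃ s, a = MulAut.conj s
  · exact hnd (dvd_of_inner hin)
  · push Not at hin
    obtain ⟨k, σ, hk, hσ⟩ := D.outer ha rfl hin
    rw [hk, MulAut.mul_apply, MulAut.conj_apply, mul_inv_eq_iff_eq_mul] at h2
    have h4 : ((k : GL ι F) : Matrix ι ι F) * (((x : GL ι F) : Matrix ι ι F)).map σ =
        ((x : GL ι F) : Matrix ι ι F) * ((k : GL ι F) : Matrix ι ι F) :=
      congrArg (fun z : ↥G => ((z : GL ι F) : Matrix ι ι F)) h2
    have h5 := SemiFix.le_of_semi ha hσ D.hr D.hF D.hl D.hd D.hd0 (y := ((x : GL ι F) : Matrix ι ι F))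
      (g := ((k : GL ι F) : Matrix ι ι F)) (k : GL ι F).isUnit ?_ ?_ h4
    · have h6 := h _ ha hnd
      omega
    · have h6 : x ^ l = 1 := by rw [← hx, pow_orderOf_eq_one]
      have h7 := congrArg (fun z : ↥G => ((z : GL ι F) : Matrix ι ι F)) h6
      simpa using h7
    · intro h6
      have h7 : x = 1 := Subtype.ext (Units.ext h6)
      rw [h7, orderOf_one] at hx
      exact D.hl.one_lt.ne hx

theorem exists_es_of_dat [Fintype F] [Finite ↥G] {r f l d : ℕ} (D : Dat G r f l d)
    (h : ∀ p : ℕ, p.Prime → ¬ p ∣ Nat.card ↥G → Fintype.card ι < p * d) : ∃ x : ↥G, ES x := by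
  have hlf : Fact l.Prime := ⟨D.hl⟩
  obtain ⟨x, hx⟩ := exists_prime_orderOf_dvd_card' l D.hlG
  exact ⟨x, es_of_dat D h hx⟩

end dat

end Cfsg.Agent.H980.ES
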