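import Cfsg.Agent.H980.ESBase
import Cfsg.Agent.H566.RowSz
import Cfsg.Agent.H566.RowRee
import Cfsg.Agent.H83.RowD4
import Cfsg.Agent.S1068
import Cfsg.Agent.S2128

/-!
# S4773: the rows `Sz(q)`, `²G₂(q)`, `²F₄(q)`, `³D₄(q)` of `FactES` (helper980)
-/

set_option autoImplicit false

namespace Cfsg.Agent.H980.ES

open Cfsg Cfsg.Lie Cfsg.Agent.H672.Four

universe u

/-! ### the rows with a natural module of small degree -/

section

variable {F : Type*} [Field F] [Fintype F] {m : ℕ}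

theorem sz (hm : 1 ≤ m) (hF : Fintype.card F = 2 ^ (2 * m + 1)) (h2 : 2 ∣ Nat.card ↥(Cfsg.Lie.Sz F (2 ^ (m + 1)))) :
    ∃ x : ↥(Cfsg.Lie.Sz F (2 ^ (m + 1))), ES x := by
  obtain ⟨l, D⟩ := Cfsg.Agent.H566.RowSz.exists_dat hm hF
  refine exists_es_of_dat D fun p hp _ => ?_
  have := hp.two_le
  rw [Fintype.card_fin]
  omega

theorem ree (hm : 1 ≤ m) (hF : Fintype.card F = 3 ^ (2 * m + 1)) (h2 : 2 ∣ Nat.card ↥(twistedG2 F (3 ^ m))) :
    ∃ x : ↥(twistedG2 F (3 ^ m)), ES x := by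
  obtain ⟨l, D⟩ := Cfsg.Agent.H566.RowRee.exists_dat hm hF
  refine exists_es_of_dat D fun p hp hnd => ?_
  have h3 : p ≠ 2 := fun h => hnd (h ▸ h2)
  have := hp.two_le
  rw [Cfsg.Agent.H566.RowRee.card_idx]
  omega

theorem card_idxF4 : Fintype.card chevF4.Idx = 52 := by
  decide

theorem three_dvd (m : ℕ) : 3 ∣ (2 ^ (2 * m + 1)) ^ 3 + 1 := by
  rw [← ZMod.natCast_eq_zero_iff]
  push_cast
  have h1 : (2 : ZMod 3) = -1 := by decide
  rw [h1, ← pow_mul, Odd.neg_one_pow (by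
    rw [mul_comm]
    exact Odd.mul (by decide) ⟨m, rfl⟩)]
  decide

open Cfsg.Agent.H566.RowFld Cfsg.Agent.H967.CopMat in
theorem exists_datF4 (hm : 1 ≤ m) (hF : Fintype.card F = 2 ^ (2 * m + 1)) :
    ∃ l, Dat (twistedF4 F (2 ^ m)) 2 (2 * m + 1) l 12 := by
  obtain ⟨l, hl, hd, h1, h2⟩ := Cfsg.Agent.Lib.Zsigmondy.exists_primitive (a := 2) (n := 12 * (2 * m + 1)) le_rfl (by omega)
    (by omega) (by omega)
  have := Cfsg.Agent.H967.CopSz.two_prime
  have hc : CharP F 2 := Cfsg.Agent.H967.CopSz.charP_of_card Nat.prime_two hF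
  have haut : ∀ ψ : MulAut ↥(twistedF4 F (2 ^ m)), ∃ (g : ↥(twistedF4 F (2 ^ m))) (σ : F ≃+* F),
      ψ = MulAut.conj g * fieldAut (Cfsg.Agent.H967.CopSz.stab_f4 _) σ := by
    intro ψ
    obtain ⟨g, σ, h⟩ := Cfsg.Agent.H71.FldAut.twF4_aut hm hF ψ
    exact ⟨g, σ, h⟩
  refine ⟨l, Cfsg.Agent.H967.CopSz.stab_f4 _, Nat.prime_two, hF, haut, ?_, hl, hd, by norm_num, ?_⟩
  · intro σ hσ
    exact eq_one_of_inner _ (p := 2) (by omega) hF (S2128.result hm hF) haut hσ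
  · rw [Cfsg.Agent.S1068.result hF]
    have hldvd : l ∣ (2 ^ (2 * m + 1)) ^ 6 + 1 := by
      have h1 : l ∣ 2 ^ (12 * (2 * m + 1)) - 1 := (hd _).2 dvd_rfl
      have h2 : 2 ^ (12 * (2 * m + 1)) - 1 = (2 ^ (6 * (2 * m + 1)) - 1) * ((2 ^ (2 * m + 1)) ^ 6 + 1) := by
        have h3 : 2 ^ (12 * (2 * m + 1)) = ((2 ^ (2 * m + 1)) ^ 6) ^ 2 := by rw [← pow_mul, ← pow_mul]; ring_nf
        have h4 : 2 ^ (6 * (2 * m + 1)) = (2 ^ (2 * m + 1)) ^ 6 := by rw [← pow_mul]; ring_nf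
        rw [h3, h4]
        generalize (2 ^ (2 * m + 1)) ^ 6 = k
        have h5 := Nat.sq_sub_sq k 1
        rw [one_pow] at h5
        rw [h5, mul_comm]
      rw [h2] at h1
      rcases hl.dvd_mul.1 h1 with h3 | h3
      · have h4 := (hd _).1 h3
        have := Nat.le_of_dvd (by omega) h4
        omega
      · exact h3
    exact hldvd.mul_left _

theorem tf4 (hm : 1 ≤ m) (hF : Fintype.card F = 2 ^ (2 * m + 1)) (h2 : 2 ∣ Nat.card ↥(twistedF4 F (2 ^ m)))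
    (h3 : 3 ∣ Nat.card ↥(twistedF4 F (2 ^ m))) : ∃ x : ↥(twistedF4 F (2 ^ m)), ES x := by
  obtain ⟨l, D⟩ := exists_datF4 hm hF
  refine exists_es_of_dat D fun p hp hnd => ?_
  have h4 : p ≠ 2 := fun h => hnd (h ▸ h2)
  have h5 : p ≠ 3 := fun h => hnd (h ▸ h3)
  have h6 : p ≠ 4 := by rintro rfl; exact absurd hp (by norm_num)
  have := hp.two_le
  rw [card_idxF4]
  omega

end

/-! ### `³D₄(q)` -/

section

open Subgroup Cfsg.Agent.H83.AutCount Cfsg.Agent.H83.RowD4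

variable {K : Type u} [Field K] [Fintype K] {q : ℕ} (hq : IsPrimePow q) (hK : Fintype.card K = q ^ 3)

include hq hK

/-- an element fixed only by inner automorphisms -/
theorem d4 : ∃ x : ↥(twistedD4 K q), ES x := by
  obtain ⟨r, f, hr', hf, hqf⟩ := id hq
  have hr'' : r.Prime := hr'.nat_prime
  have hr : Fact r.Prime := ⟨hr''⟩
  have hcr : CharP K r := by
    obtain ⟨r', hr1⟩ := CharP.exists K
    have hr2 : r'.Prime := CharP.char_is_prime K r'
    obtain ⟨m, -, hm⟩ := FiniteField.card K r'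
    rw [hK, ← hqf, ← pow_mul] at hm
    have h1 : r ∣ r' ^ (m : ℕ) := by
      rw [← hm]
      exact dvd_pow_self r (by omega)
    have h2 := (Nat.prime_dvd_prime_iff_eq hr'' hr2).1 (hr''.dvd_of_dvd_pow h1)
    rw [h2]; exact hr1
  have hZ := H69.OutTwD4.center_eq_bot hq hK
  obtain ⟨l, hl, hord, hlN', hlf, hlr⟩ := exists_l hr'' (f := f) (by omega)
  have hlN : l ∣ q ^ 4 - q ^ 2 + 1 := by rw [← hqf]; exact hlN'
  obtain ⟨x0, hx0, hx0c, b, hb⟩ := Cfsg.Agent.H83.TorD4.exists_x0 hq hK r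
  set N := q ^ 4 - q ^ 2 + 1 with hN
  have hNpos : 0 < N := by omega
  obtain ⟨m, hm⟩ := hlN
  have hm0 : m ≠ 0 := by rintro rfl; omega
  -- the element of order `l`
  set x1 := x0 ^ m with hx1
  have hx1l : orderOf x1 = l := by
    rw [hx1, orderOf_pow_of_dvd hm0 (by rw [hx0, hm]; exact Dvd.intro_left _ rfl), hx0, hm,
      Nat.mul_div_cancel _ (Nat.pos_of_ne_zero hm0)]
  have hx1ne : x1 ≠ 1 := by
    intro h
    rw [h, orderOf_one] at hx1l
    exact hl.one_lt.ne hx1l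
  have hT : centralizer {x1} = zpowers x0 := hx0c x1 (npow_mem_zpowers x0 m) hx1ne
  set T := zpowers x0 with hTdef
  have hTcard : Nat.card ↥T = N := by rw [hTdef, Nat.card_zpowers, hx0]
  have hcyc : IsCyclic ↥T := by rw [hTdef]; infer_instance
  have hbx : b x1 = x1 ^ r := by rw [hx1, map_pow, hb, ← pow_mul, ← pow_mul, mul_comm]
  have hidx : T.index * N = q ^ 12 * (q ^ 2 - 1) * (q ^ 6 - 1) * (q ^ 8 + q ^ 4 + 1) := by
    rw [← S1067.result hq hK, ← hTcard, mul_comm]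
    exact T.card_mul_index
  have hmod : ∀ m, m ∣ N → T.index ≡ 4 [MOD m] := fun m hm => index_mod hq.one_lt.le hm hidx
  have hout : (MulAut.conj : ↥(twistedD4 K q) →* MulAut ↥(twistedD4 K q)).range.index = 3 * f := by
    rw [← H997.OutCard.card_out, H69.OutTwD4.card_out hq hK r, H166.FieldAut.card_ringAut r (3 * f)]
    rw [hK, ← hqf, ← pow_mul, mul_comm]
  have hstab : Nat.card ↥(MulAction.stabilizer (MulAut ↥(twistedD4 K q)) x1) ≤ Nat.card ↥T := by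
    have := card_fix_le hl hx1l hT hcyc hZ (c := 4) (by norm_num) (by omega) (hmod l ⟨m, hm⟩) hbx hord (d := 1)
      (by rw [hout]; omega) (by omega)
    rwa [one_mul] at this
  have hTx : ∀ y ∈ T, y * x1 = x1 * y := fun y hy => by
    rw [← hT] at hy
    exact mem_centralizer_singleton_iff.1 hy
  refine ⟨x1, of_inner fun a ha => ?_⟩
  obtain ⟨s, -, hs⟩ := inner_of_fix hZ hTx hstab ha
  exact ⟨s, hs⟩

end

/-! ### the predicates -/

section

variable {S : Type u} [Group S] [Finite S]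

theorem row_suzuki (h2 : 2 ∣ Nat.card S) (h : IsoSuzuki S) : ∃ s : S, ES s := by
  obtain ⟨F, _, _, m, hm, hF, ⟨e⟩⟩ := h
  exact exists_of_equiv e (sz hm hF (by rwa [← Nat.card_congr e.toEquiv]))

theorem row_ree (h2 : 2 ∣ Nat.card S) (h : IsoRee S) : ∃ s : S, ES s := by
  obtain ⟨F, _, _, m, hm, hF, ⟨e⟩⟩ := h
  exact exists_of_equiv e (ree hm hF (by rwa [← Nat.card_congr e.toEquiv]))

theorem row_2f4 (h : Iso2F4 S) : ∃ s : S, ES s := by
  obtain ⟨F, _, _, m, hm, hF, ⟨e⟩⟩ := h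
  refine exists_of_equiv e (tf4 hm hF ?_ ?_)
  · rw [Cfsg.Agent.S1068.result hF, mul_assoc, mul_assoc, mul_assoc]
    exact ((dvd_pow_self 2 (by omega)).trans (dvd_pow_self _ (by norm_num))).mul_right _
  · rw [Cfsg.Agent.S1068.result hF]
    exact (((three_dvd m).mul_left _).mul_right _).mul_right _

theorem row_3d4 (h : Iso3D4 S) : ∃ s : S, ES s := by
  obtain ⟨F, _, _, q, hq, hK, ⟨e⟩⟩ := h
  exact exists_of_equiv e (d4 hq hK)

end

end Cfsg.Agent.H980.ES
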