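import Cfsg.Agent.H842.Seven
import Cfsg.Agent.Schreier.FiTwentyFour

/-!
# `Fi24'`: orders of elements, given by short words (helper980)

* `dvd_orderOf` : a cycle of length `n` on the transpositions;
* `exists_order` : elements of `Fi24'` of all the 35 orders of the ATLAS.
-/

set_option autoImplicit false
set_option maxRecDepth 100000

namespace Cfsg.Agent.H980.Fi24Ord

open Cfsg Cfsg.Agent.Lib.PermNet Cfsg.Agent.Lib.PermNetPt Cfsg.Agent.Fischer.Fi24RepDef Cfsg.Agent.Fischer.Fi24Rep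
open Cfsg.Agent.Fischer.Fi24Spider (word_append word_cons word_nil)
open Cfsg.Agent.H842.Seven (rho_ne)
open Cfsg.Agent.Schreier.FiTwentyFour (rho_of_chkPt word_mem)
open Cfsg.Spor (Fi24)
open Cfsg.Spor.Fi24 (Gen)

/-- the `n`-fold repetition of a word -/
def rp : ℕ → List Gen → List Gen
  | 0, _ => []
  | n + 1, l => l ++ rp n l

theorem word_rp (n : ℕ) (l : List Gen) : word (rp n l) = word l ^ n := by
  induction n with
  | zero => rw [pow_zero]; exact word_nil
  | succ n ih =>
    show word (l ++ rp n l) = _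
    rw [word_append, ih, pow_succ']

/-- a cycle of length `n` -/
theorem dvd_orderOf {w : List Gen} {n p : ℕ} (hn : n ≠ 0) (h : chkPt (nw (rp n w) false) p p = true)
    (hq : ∀ q ∈ n.primeFactorsList, Nat.beq (winv (nw (rp (n / q) w) false) p) p = false) :
    n ∣ orderOf (word w) := by
  have h1 : rho (word w) ^ n • p = p := by
    rw [← map_pow, ← word_rp]
    exact rho_of_chkPt h
  have h2 : Function.minimalPeriod (rho (word w)) p = n := by
    have h3 : Function.minimalPeriod (rho (word w)) p ∣ n := by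
      rw [← Function.isPeriodicPt_iff_minimalPeriod_dvd]
      show (rho (word w))^[n] p = p
      rw [← Equiv.Perm.coe_pow]
      exact h1
    by_contra hne
    obtain ⟨k, hk⟩ := h3
    have hk1 : k ≠ 1 := by
      rintro rfl
      rw [mul_one] at hk
      exact hne hk.symm
    obtain ⟨q, hqp, hqk⟩ := Nat.exists_prime_and_dvd hk1
    have hqn : q ∣ n := by rw [hk]; exact hqk.mul_left _
    have h4 := rho_ne (hq q (Nat.mem_primeFactorsList hn |>.2 ⟨hqp, hqn⟩))
    apply h4
    rw [word_rp, map_pow, Equiv.Perm.coe_pow]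
    show Function.IsPeriodicPt (rho (word w)) (n / q) p
    rw [Function.isPeriodicPt_iff_minimalPeriod_dvd]
    obtain ⟨m, rfl⟩ := hqk
    refine ⟨m, ?_⟩
    apply Nat.div_eq_of_eq_mul_right hqp.pos
    rw [hk]; ring
  rw [← h2]
  have h5 : Function.minimalPeriod (rho (word w)) p ∣ orderOf (rho (word w)) := by
    rw [← Function.isPeriodicPt_iff_minimalPeriod_dvd]
    show (rho (word w))^[orderOf (rho (word w))] p = p
    rw [← Equiv.Perm.coe_pow, pow_orderOf_eq_one]
    rfl
  exact h5.trans (orderOf_map_dvd rho (word w))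

/-- the test: `w` is even and the point `p` lies in a cycle of length `n` -/
noncomputable def tst (w : List Gen) (n p : ℕ) : Bool :=
  and (Nat.beq (w.length % 2) 0) (and (chkPt (nw (rp n w) false) p p)
    (n.primeFactorsList.all fun q => !Nat.beq (winv (nw (rp (n / q) w) false) p) p))

theorem tst_spec {w : List Gen} {n p : ℕ} (hn : n ≠ 0) (h : tst w n p = true) {m : ℕ} (hm : m ∣ n) :
    ∃ x : Cfsg.Spor.Fi24', orderOf x = m := by
  unfold tst at h
  rw [Bool.and_eq_true, Bool.and_eq_true, List.all_eq_true] at h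
  obtain ⟨h1, h2, h3⟩ := h
  have h4 : n ∣ orderOf (word w) := dvd_orderOf hn h2 fun q hq => by
    have h5 := h3 q hq
    revert h5
    cases Nat.beq (winv (nw (rp (n / q) w) false) p) p <;> simp
  let x : Cfsg.Spor.Fi24' := ⟨word w, word_mem (Nat.eq_of_beq_eq_true h1)⟩
  have h6 : m ∣ orderOf x := by
    rw [Subgroup.orderOf_mk]
    exact hm.trans h4
  obtain ⟨k, hk⟩ := h6
  have h7 : orderOf x ≠ 0 := by
    rw [Subgroup.orderOf_mk]
    have : Finite Fi24 := Cfsg.Agent.R08.FiTwentyFour.finite_Fi24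
    exact (orderOf_pos _).ne'
  refine ⟨x ^ k, ?_⟩
  have hk0 : k ≠ 0 := by
    rintro rfl
    exact h7 (by rw [hk, mul_zero])
  rw [orderOf_pow_of_dvd hk0 ⟨m, by rw [hk, mul_comm]⟩, hk]
  exact Nat.mul_div_cancel _ (Nat.pos_of_ne_zero hk0)

theorem t60 : tst [.g, .a, .h, .j, .c, .l, .f, .b, .i, .e] 60 2914 = true := by decide +kernel
theorem t45 : tst [.c, .k, .f, .d, .a, .h, .k, .g, .e, .j, .d, .i, .c, .h, .d, .e, .b, .h, .k, .i] 45 0 = true := by decide +kernel
theorem t42 : tst [.h, .d, .e, .c, .l, .g, .f, .d, .i, .b, .e, .d, .c, .k] 42 1 = true := by decide +kernel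
theorem t39 : tst [.l, .g, .e, .h, .b, .k, .d, .i, .c, .f] 39 1 = true := by decide +kernel
theorem t36 : tst [.c, .k, .e, .f, .l, .h, .g, .d, .i, .a] 36 193 = true := by decide +kernel
theorem t33 : tst [.k, .e, .b, .f, .h, .a, .j, .d, .l, .g, .i, .c] 33 0 = true := by decide +kernel
theorem t35 : tst [.b, .a, .d, .j, .h, .e, .f, .l, .k, .g] 35 2 = true := by decide +kernel
theorem t29 : tst [.h, .d, .c, .b, .a, .e, .l, .g, .k, .j, .i, .d, .b, .f, .c, .e, .b, .d] 29 0 = true := by decide +kernel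
theorem t28 : tst [.e, .f, .c, .j, .g, .b, .h, .i, .l, .d] 28 1 = true := by decide +kernel
theorem t27 : tst [.a, .c, .f, .g, .e, .d, .h, .c, .i, .b, .f, .e, .j, .c, .d, .h] 27 1 = true := by decide +kernel
theorem t26 : tst [.i, .b, .e, .h, .j, .d, .f, .c, .l, .a] 26 8 = true := by decide +kernel
theorem t24 : tst [.h, .g, .e, .d, .k, .l, .b, .c] 24 1 = true := by decide +kernel
theorem t23 : tst [.c, .d, .e, .i, .d, .k, .l, .a, .f, .e, .c, .d, .h, .d, .g, .c, .b, .a, .b, .d] 23 0 = true := by decide +kernel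
theorem t22 : tst [.c, .d, .b, .g, .f, .e, .i, .h, .d, .e, .a, .l] 22 1 = true := by decide +kernel
theorem t17 : tst [.g, .j, .f, .h, .b, .d, .e, .l, .c, .a] 17 1 = true := by decide +kernel
theorem t16 : tst [.h, .i, .b, .d, .l, .e, .d, .a, .h, .d, .c, .g, .d, .e, .d, .b, .c, .f, .b, .h, .i, .d] 16 1 = true := by decide +kernel

/-- the orders of the elements of `Fi24'` -/
def ords : List ℕ := [1, 2, 3, 4, 5, 6, 7, 8, 9, 10, 11, 12, 13, 14, 15, 16, 17, 18, 20, 21, 22, 23, 24, 26, 27, 28, 29, 30, 33, 35,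
  36, 39, 42, 45, 60]

theorem ords_dvd : ∀ m ∈ ords, m ∣ 60 ∨ m ∣ 45 ∨ m ∣ 42 ∨ m ∣ 39 ∨ m ∣ 36 ∨ m ∣ 33 ∨ m ∣ 35 ∨ m ∣ 29 ∨ m ∣ 28 ∨ m ∣ 27 ∨
    m ∣ 26 ∨ m ∣ 24 ∨ m ∣ 23 ∨ m ∣ 22 ∨ m ∣ 17 ∨ m ∣ 16 := by decide

/-- **the orders of the elements of `Fi24'`** -/
theorem exists_order {m : ℕ} (hm : m ∈ ords) : ∃ x : Cfsg.Spor.Fi24', orderOf x = m := by
  rcases ords_dvd m hm with h | h | h | h | h | h | h | h | h | h | h | h | h | h | h | h
  · exact tst_spec (by norm_num) t60 h
  · exact tst_spec (by norm_num) t45 h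
  · exact tst_spec (by norm_num) t42 h
  · exact tst_spec (by norm_num) t39 h
  · exact tst_spec (by norm_num) t36 h
  · exact tst_spec (by norm_num) t33 h
  · exact tst_spec (by norm_num) t35 h
  · exact tst_spec (by norm_num) t29 h
  · exact tst_spec (by norm_num) t28 h
  · exact tst_spec (by norm_num) t27 h
  · exact tst_spec (by norm_num) t26 h
  · exact tst_spec (by norm_num) t24 h
  · exact tst_spec (by norm_num) t23 h
  · exact tst_spec (by norm_num) t22 h
  · exact tst_spec (by norm_num) t17 h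
  · exact tst_spec (by norm_num) t16 h

end Cfsg.Agent.H980.Fi24Ord
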