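import Cfsg.Agent.H980.Fi24Ord
import Cfsg.Agent.H842.SevenSyl
import Cfsg.Agent.H841.Phi
import Cfsg.Agent.H713.Spor.FiTF
import Cfsg.Agent.H710.VanCount
import Cfsg.Agent.H387.VO.Main
import Mathlib.GroupTheory.Perm.Centralizer
import Mathlib.GroupTheory.Perm.Cycle.Concrete

/-!
# S4987: the row of `Fi24'`, `p = 5` and `p = 7` (helper980, task 3277)

The elements `y0 * Phi σ` (order 35, `σ` a 7-cycle; order 30, `σ` of type `(6,2,1)`) of `C(y0) = 5 × S₉` and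
`y7 * Psi σ` (order 28, `σ` of type `(4,2,1)`) of `C(y7) = 7 × S₇` have centralizers of order 35, 30, 28 in `Fi24'`,
which has more than 35 classes.
-/

set_option autoImplicit false
set_option maxRecDepth 100000

namespace Cfsg.Agent.H980.VanFi24

open Cfsg Cfsg.Agent.Fischer.Fi24RepDef Cfsg.Agent.Fischer.Fi24Rep
open Cfsg.Agent.Fischer.Fi24Final (sgn)
open Cfsg.Agent.R08.FiTwentyFour (L finite_Fi24)
open Cfsg.Agent.Schreier.FiTwentyFour (word_mem)
open Cfsg.Agent.H710.VanCount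
open Cfsg.Spor (Fi24)
open Equiv Subgroup

/-- `Fi24'` has at least 36 classes -/
theorem card_classes : 36 ≤ Nat.card (ConjClasses Cfsg.Spor.Fi24') := by
  have := Cfsg.Agent.H713.Spor.FiTF.finite'
  have h := le_card_conjClasses_two (G := Cfsg.Spor.Fi24') (Cfsg.Agent.H980.Fi24Ord.ords.toFinset) {2}
    (fun n hn => Cfsg.Agent.H980.Fi24Ord.exists_order (List.mem_toFinset.1 hn)) (by
      intro n hn
      rw [Finset.mem_singleton] at hn
      subst hn
      obtain ⟨t, a, b, P, ht, htab⟩ := Cfsg.Agent.H713.Spor.FiTF.exists_pair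
      refine ⟨t, _, ht, Cfsg.Agent.H713.Spor.FiTF.orderOf_z0, fun h => ?_⟩
      have h1 : 11 ∣ Nat.card (centralizer ({t} : Set Spor.Fi24')) :=
        (show 11 ∣ 2 * 64561751654400 by norm_num).trans (Cfsg.Agent.H713.Spor.FiTF.dvd_pair P htab)
      rw [← Cfsg.Agent.Blocks.SylowIn.card_centralizer_of_isConj h] at h1
      exact Cfsg.Agent.H713.Spor.FiTF.not_dvd_z0 (by norm_num) h1)
  refine le_trans ?_ h
  decide

section

variable {n p : ℕ} {y : Fi24} {Φ : Perm (Fin n) →* Fi24}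

theorem sgn_hom (hL : ∀ i j : Fin n, i ≠ j → Φ (swap i j) ∈ L) (τ : Perm (Fin n)) : sgn (Φ τ) = Perm.sign τ := by
  induction τ using Equiv.Perm.swap_induction_on with
  | one => rw [map_one, map_one, map_one]
  | swap_mul f x z hxz ih =>
    rw [map_mul, map_mul, ih, map_mul, Perm.sign_swap hxz]
    congr 1
    exact Cfsg.Agent.R08.FiTwentyFour.sgn_L (hL x z hxz)

/-- **Elements `y * Φ σ` with small centralizers.** -/
theorem vz_of (hys : sgn y = 1) (hinj : Function.Injective Φ) (hp : 0 < p) (hyp : y ^ p = 1)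
    (hL : ∀ i j : Fin n, i ≠ j → Φ (swap i j) ∈ L) (hcm : ∀ τ, Commute (Φ τ) y)
    (hcent : ∀ m : Fi24, m * y = y * m → ∃ (i : ℕ) (τ : Perm (Fin n)), m = y ^ i * Φ τ)
    {σ τ : Perm (Fin n)} (hτ : Perm.sign τ = -1) (hστ : τ * σ = σ * τ) {k k' : ℕ}
    (hk : y ^ k = y) (hkσ : σ ^ k = 1) (hk' : y ^ k' = 1) (hkσ' : σ ^ k' = σ)
    (hc : p * Nat.card (centralizer ({σ} : Set (Perm (Fin n)))) < 2 * 36)
    (x : Cfsg.Spor.Fi24') (hx : (x : Fi24) = y * Φ σ) : H713.VZ Cfsg.Spor.Fi24' x := by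
  have := Cfsg.Agent.H713.Spor.FiTF.finite'
  have hfin := finite_Fi24
  have hcx : Commute y (Φ σ) := (hcm σ).symm
  have hxk : (x : Fi24) ^ k = y := by
    rw [hx, hcx.mul_pow, hk, ← map_pow, hkσ, map_one, mul_one]
  have hxk' : (x : Fi24) ^ k' = Φ σ := by
    rw [hx, hcx.mul_pow, hk', ← map_pow, hkσ', one_mul]
  -- elements commuting with `x`
  have key : ∀ c : Fi24, Commute c (x : Fi24) → ∃ (i : ℕ) (ρ : Perm (Fin n)), c = y ^ i * Φ ρ ∧ ρ * σ = σ * ρ := by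
    intro c hcx'
    have h1 : Commute c y := by rw [← hxk]; exact hcx'.pow_right k
    have h2 : Commute c (Φ σ) := by rw [← hxk']; exact hcx'.pow_right k'
    obtain ⟨i, ρ, rfl⟩ := hcent c h1.eq
    refine ⟨i, ρ, rfl, ?_⟩
    apply hinj
    rw [map_mul, map_mul]
    have h3 : Commute (y ^ i) (Φ σ) := hcx.pow_left i
    have h4 : (y ^ i * Φ ρ) * Φ σ = Φ σ * (y ^ i * Φ ρ) := h2.eq
    have h5 : y ^ i * (Φ ρ * Φ σ) = y ^ i * (Φ σ * Φ ρ) := by
      rw [← mul_assoc, h4, ← mul_assoc, ← h3.eq, mul_assoc]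
    exact mul_left_cancel h5
  apply vz_of_card
  · refine lt_of_lt_of_le ?_ card_classes
    -- the even elements of `centralizer {σ}`
    let C := centralizer ({σ} : Set (Perm (Fin n)))
    let E : Subgroup C := (Perm.sign.comp C.subtype).ker
    have hE2 : 2 * Nat.card E ≤ Nat.card C := by
      have hneE : E ≠ ⊤ := by
        intro h
        have h1 : (⟨τ, mem_centralizer_singleton_iff.2 hστ⟩ : C) ∈ E := by rw [h]; exact mem_top _
        have h2 : Perm.sign τ = 1 := h1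
        rw [hτ] at h2
        exact absurd h2 (by decide)
      have h1 := E.card_mul_index
      have h2 : E.index ≠ 1 := fun h => hneE (Subgroup.index_eq_one.1 h)
      have h3 : E.index ≠ 0 := Subgroup.index_ne_zero_of_finite
      rw [← h1, mul_comm]
      exact Nat.mul_le_mul le_rfl (by omega)
    have hle : Nat.card (centralizer ({x} : Set Cfsg.Spor.Fi24')) ≤ Nat.card (Fin p × E) := by
      have hch : ∀ c : centralizer ({x} : Set Cfsg.Spor.Fi24'), ∃ (i : Fin p) (ρ : E),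
          ((c : Cfsg.Spor.Fi24') : Fi24) = y ^ (i : ℕ) * Φ ((ρ : C) : Perm (Fin n)) := by
        intro c
        have hcc : Commute ((c : Cfsg.Spor.Fi24') : Fi24) (x : Fi24) :=
          congrArg Subtype.val (mem_centralizer_singleton_iff.1 c.2)
        obtain ⟨i, ρ, h1, h2⟩ := key _ hcc
        have h3 : Perm.sign ρ = 1 := by
          have h4 : sgn ((c : Cfsg.Spor.Fi24') : Fi24) = 1 :=
            Cfsg.Agent.R08.FiTwentyFour.mem_commutator_iff.1 (c : Cfsg.Spor.Fi24').2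
          rw [h1, map_mul, map_pow, hys, one_pow, one_mul, sgn_hom hL] at h4
          exact h4
        refine ⟨⟨i % p, Nat.mod_lt _ hp⟩, ⟨⟨ρ, mem_centralizer_singleton_iff.2 h2⟩, h3⟩, ?_⟩
        rw [h1]
        congr 1
        show y ^ i = y ^ (i % p)
        conv_lhs => rw [← Nat.div_add_mod i p, pow_add, pow_mul, hyp, one_pow, one_mul]
      choose f g hfg using hch
      refine Nat.card_le_card_of_injective (fun c => (f c, g c)) ?_
      intro c d hcd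
      have h1 : f c = f d := congrArg Prod.fst hcd
      have h2 : g c = g d := congrArg Prod.snd hcd
      apply Subtype.ext
      apply Subtype.ext
      rw [hfg c, hfg d, h1, h2]
    rw [Nat.card_prod, Nat.card_fin] at hle
    have h5 : p * (2 * Nat.card E) ≤ p * Nat.card C := Nat.mul_le_mul le_rfl hE2
    have h6 : p * Nat.card C < 2 * 36 := hc
    have h7 : p * (2 * Nat.card E) = 2 * (p * Nat.card E) := by ring
    omega
  · intro α
    obtain ⟨g, hg⟩ := Cfsg.Agent.KFacts.FiTF.exists_conj α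
    refine ⟨1, ?_⟩
    rw [pow_one, isConj_iff]
    by_cases hgs : sgn g = 1
    · refine ⟨⟨g, Cfsg.Agent.R08.FiTwentyFour.mem_commutator_iff.2 hgs⟩, Subtype.ext ?_⟩
      exact (hg x).symm
    · have h1 : sgn g = -1 := (Int.units_eq_one_or _).resolve_left hgs
      refine ⟨⟨g * Φ τ, Cfsg.Agent.R08.FiTwentyFour.mem_commutator_iff.2 ?_⟩, Subtype.ext ?_⟩
      · rw [map_mul, h1, sgn_hom hL, hτ]; decide
      · rw [hg x]
        show g * Φ τ * (x : Fi24) * (g * Φ τ)⁻¹ = g * (x : Fi24) * g⁻¹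
        have h2 : Commute (Φ τ) (x : Fi24) := by
          rw [hx]
          refine (hcm τ).mul_right ?_
          show Φ τ * Φ σ = Φ σ * Φ τ
          rw [← map_mul, hστ, map_mul]
        calc g * Φ τ * (x : Fi24) * (g * Φ τ)⁻¹ = g * (Φ τ * (x : Fi24)) * (Φ τ)⁻¹ * g⁻¹ := by group
          _ = g * (x : Fi24) * g⁻¹ := by rw [h2.eq]; group

end

/-! ### The three elements -/

theorem card_c7 : Nat.card (centralizer ({(c[0, 1, 2, 3, 4, 5, 6] : Perm (Fin 9))} : Set (Perm (Fin 9)))) = 14 := by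
  rw [Equiv.Perm.nat_card_centralizer, show (c[0, 1, 2, 3, 4, 5, 6] : Perm (Fin 9)).cycleType = {7} by decide +kernel]
  decide +kernel

theorem card_c621 :
    Nat.card (centralizer ({(c[0, 1, 2, 3, 4, 5] * c[6, 7] : Perm (Fin 9))} : Set (Perm (Fin 9)))) = 12 := by
  rw [Equiv.Perm.nat_card_centralizer,
    show (c[0, 1, 2, 3, 4, 5] * c[6, 7] : Perm (Fin 9)).cycleType = {6, 2} by decide +kernel]
  decide +kernel

theorem card_c421 :
    Nat.card (centralizer ({(c[0, 1, 2, 3] * c[4, 5] : Perm (Fin 7))} : Set (Perm (Fin 7)))) = 8 := by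
  rw [Equiv.Perm.nat_card_centralizer,
    show (c[0, 1, 2, 3] * c[4, 5] : Perm (Fin 7)).cycleType = {4, 2} by decide +kernel]
  decide +kernel

open Cfsg.Agent.LThreeFi24.SNine (y0)
open Cfsg.Agent.H842.Seven (y7 Psi)
open Cfsg.Agent.H841.Five (Phi)

theorem sgn_y0 : sgn y0 = 1 := by
  have h : y0 ∈ commutator Fi24 := word_mem (l := [.l, .k, .a, .b]) rfl
  exact Cfsg.Agent.R08.FiTwentyFour.mem_commutator_iff.1 h

theorem sgn_y7 : sgn y7 = 1 := by
  have h : y7 ∈ commutator Fi24 := word_mem (l := Cfsg.Agent.H842.Seven.yw) rfl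
  exact Cfsg.Agent.R08.FiTwentyFour.mem_commutator_iff.1 h

theorem sgn_Phi (τ : Perm (Fin 9)) : sgn (Phi τ) = Perm.sign τ :=
  sgn_hom (fun _ _ h => Cfsg.Agent.H841.Five.Phi_swap_mem_L h) τ

theorem sgn_Psi (τ : Perm (Fin 7)) : sgn (Psi τ) = Perm.sign τ :=
  sgn_hom (fun _ _ h => Cfsg.Agent.H842.Seven.Psi_mem_L h) τ

theorem y0_pow : y0 ^ 5 = 1 := by
  rw [← Cfsg.Agent.LThreeFi24.FiveConj.orderOf_y0, pow_orderOf_eq_one]

/-- an element of order 35 -/
noncomputable def x35 : Cfsg.Spor.Fi24' := ⟨y0 * Phi c[0, 1, 2, 3, 4, 5, 6],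
  Cfsg.Agent.R08.FiTwentyFour.mem_commutator_iff.2 (by rw [map_mul, sgn_y0, sgn_Phi]; decide +kernel)⟩

/-- an element of order 30 -/
noncomputable def x30 : Cfsg.Spor.Fi24' := ⟨y0 * Phi (c[0, 1, 2, 3, 4, 5] * c[6, 7]),
  Cfsg.Agent.R08.FiTwentyFour.mem_commutator_iff.2 (by rw [map_mul, sgn_y0, sgn_Phi]; decide +kernel)⟩

/-- an element of order 28 -/
noncomputable def x28 : Cfsg.Spor.Fi24' := ⟨y7 * Psi (c[0, 1, 2, 3] * c[4, 5]),
  Cfsg.Agent.R08.FiTwentyFour.mem_commutator_iff.2 (by rw [map_mul, sgn_y7, sgn_Psi]; decide +kernel)⟩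

theorem vz35 : H713.VZ Cfsg.Spor.Fi24' x35 := by
  refine vz_of (p := 5) sgn_y0 Cfsg.Agent.H841.Five.Phi_injective (by norm_num) y0_pow
    (fun _ _ h => Cfsg.Agent.H841.Five.Phi_swap_mem_L h) Cfsg.Agent.H841.Five.Phi_comm_y0 (fun m hm => ?_)
    (σ := c[0, 1, 2, 3, 4, 5, 6]) (τ := swap 7 8) (by decide +kernel) (by decide +kernel) (k := 21) (k' := 15)
    ?_ (by decide +kernel) ?_ (by decide +kernel) (by rw [card_c7]; norm_num) x35 rfl
  · obtain ⟨i, σ, -, -, h⟩ := Cfsg.Agent.H841.Five.exists_of_comm hm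
    exact ⟨i, σ, h⟩
  · rw [show 21 = 5 * 4 + 1 by norm_num, pow_succ, pow_mul, y0_pow, one_pow, one_mul]
  · rw [show 15 = 5 * 3 by norm_num, pow_mul, y0_pow, one_pow]

theorem vz30 : H713.VZ Cfsg.Spor.Fi24' x30 := by
  refine vz_of (p := 5) sgn_y0 Cfsg.Agent.H841.Five.Phi_injective (by norm_num) y0_pow
    (fun _ _ h => Cfsg.Agent.H841.Five.Phi_swap_mem_L h) Cfsg.Agent.H841.Five.Phi_comm_y0 (fun m hm => ?_)
    (σ := c[0, 1, 2, 3, 4, 5] * c[6, 7]) (τ := swap 6 7) (by decide +kernel) (by decide +kernel) (k := 6) (k' := 25)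
    ?_ (by decide +kernel) ?_ (by decide +kernel) (by rw [card_c621]; norm_num) x30 rfl
  · obtain ⟨i, σ, -, -, h⟩ := Cfsg.Agent.H841.Five.exists_of_comm hm
    exact ⟨i, σ, h⟩
  · rw [show 6 = 5 * 1 + 1 by norm_num, pow_succ, pow_mul, y0_pow, one_pow, one_mul]
  · rw [show 25 = 5 * 5 by norm_num, pow_mul, y0_pow, one_pow]

theorem vz28 : H713.VZ Cfsg.Spor.Fi24' x28 := by
  refine vz_of (p := 7) sgn_y7 Cfsg.Agent.H842.Seven.Psi_injective (by norm_num) Cfsg.Agent.H842.SevenSyl.y7_pow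
    (fun _ _ h => Cfsg.Agent.H842.Seven.Psi_mem_L h) Cfsg.Agent.H842.Seven.y7_Psi (fun m hm => ?_)
    (σ := c[0, 1, 2, 3] * c[4, 5]) (τ := swap 4 5) (by decide +kernel) (by decide +kernel) (k := 8) (k' := 21)
    ?_ (by decide +kernel) ?_ (by decide +kernel) (by rw [card_c421]; norm_num) x28 rfl
  · exact Cfsg.Agent.H842.Seven.exists_of_comm7 hm
  · rw [show 8 = 7 * 1 + 1 by norm_num, pow_succ, pow_mul, Cfsg.Agent.H842.SevenSyl.y7_pow, one_pow, one_mul]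
  · rw [show 21 = 7 * 3 by norm_num, pow_mul, Cfsg.Agent.H842.SevenSyl.y7_pow, one_pow]

/-- orders, from powers -/
theorem dvd_of {x : Cfsg.Spor.Fi24'} {z : Fi24} {q k : ℕ} (hz : orderOf z = q) (hk : (x : Fi24) ^ k = z) :
    q ∣ orderOf x := by
  rw [← hz, ← hk, ← Subgroup.orderOf_coe]
  exact orderOf_pow_dvd k

theorem orderOf_y7 : orderOf y7 = 7 := by
  have : Fact (Nat.Prime 7) := ⟨by norm_num⟩
  exact orderOf_eq_prime Cfsg.Agent.H842.SevenSyl.y7_pow Cfsg.Agent.H842.SevenSyl.y7_ne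

theorem dvd35_5 : 5 ∣ orderOf x35 := by
  refine dvd_of (k := 21) Cfsg.Agent.LThreeFi24.FiveConj.orderOf_y0 ?_
  show (y0 * Phi c[0, 1, 2, 3, 4, 5, 6]) ^ 21 = y0
  rw [(Cfsg.Agent.H841.Five.Phi_comm_y0 _).symm.mul_pow, show 21 = 5 * 4 + 1 by norm_num, pow_succ, pow_mul, y0_pow,
    one_pow, one_mul, ← map_pow, show (c[0, 1, 2, 3, 4, 5, 6] : Perm (Fin 9)) ^ (5 * 4 + 1) = 1 by decide +kernel,
    map_one, mul_one]

theorem dvd35_7 : 7 ∣ orderOf x35 := by
  have h7 : orderOf (Phi c[0, 1, 2, 3, 4, 5, 6]) = 7 := by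
    rw [orderOf_injective Phi Cfsg.Agent.H841.Five.Phi_injective]
    have : Fact (Nat.Prime 7) := ⟨by norm_num⟩
    exact orderOf_eq_prime (by decide +kernel) (by decide +kernel)
  refine dvd_of (k := 15) h7 ?_
  show (y0 * Phi c[0, 1, 2, 3, 4, 5, 6]) ^ 15 = _
  rw [(Cfsg.Agent.H841.Five.Phi_comm_y0 _).symm.mul_pow, show 15 = 5 * 3 by norm_num, pow_mul, y0_pow,
    one_pow, one_mul, ← map_pow, show (c[0, 1, 2, 3, 4, 5, 6] : Perm (Fin 9)) ^ (5 * 3) = c[0, 1, 2, 3, 4, 5, 6] by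
      decide +kernel]

theorem dvd30_5 : 5 ∣ orderOf x30 := by
  refine dvd_of (k := 6) Cfsg.Agent.LThreeFi24.FiveConj.orderOf_y0 ?_
  show (y0 * Phi (c[0, 1, 2, 3, 4, 5] * c[6, 7])) ^ 6 = y0
  rw [(Cfsg.Agent.H841.Five.Phi_comm_y0 _).symm.mul_pow, show 6 = 5 * 1 + 1 by norm_num, pow_succ, pow_mul, y0_pow,
    one_pow, one_mul, ← map_pow, show (c[0, 1, 2, 3, 4, 5] * c[6, 7] : Perm (Fin 9)) ^ (5 * 1 + 1) = 1 by
      decide +kernel, map_one, mul_one]

theorem x30_dvd : orderOf x30 ∣ 30 := by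
  rw [orderOf_dvd_iff_pow_eq_one]
  apply Subtype.ext
  show (y0 * Phi (c[0, 1, 2, 3, 4, 5] * c[6, 7])) ^ 30 = 1
  rw [(Cfsg.Agent.H841.Five.Phi_comm_y0 _).symm.mul_pow, show 30 = 5 * 6 by norm_num, pow_mul, y0_pow,
    one_pow, one_mul, ← map_pow, show (c[0, 1, 2, 3, 4, 5] * c[6, 7] : Perm (Fin 9)) ^ (5 * 6) = 1 by
      decide +kernel, map_one]

theorem dvd28_7 : 7 ∣ orderOf x28 := by
  refine dvd_of (k := 8) orderOf_y7 ?_
  show (y7 * Psi (c[0, 1, 2, 3] * c[4, 5])) ^ 8 = y7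
  rw [(Cfsg.Agent.H842.Seven.y7_Psi _).symm.mul_pow, show 8 = 7 * 1 + 1 by norm_num, pow_succ, pow_mul,
    Cfsg.Agent.H842.SevenSyl.y7_pow, one_pow, one_mul, ← map_pow,
    show (c[0, 1, 2, 3] * c[4, 5] : Perm (Fin 7)) ^ (7 * 1 + 1) = 1 by decide +kernel, map_one, mul_one]

theorem x28_dvd : orderOf x28 ∣ 28 := by
  rw [orderOf_dvd_iff_pow_eq_one]
  apply Subtype.ext
  show (y7 * Psi (c[0, 1, 2, 3] * c[4, 5])) ^ 28 = 1
  rw [(Cfsg.Agent.H842.Seven.y7_Psi _).symm.mul_pow, show 28 = 7 * 4 by norm_num, pow_mul,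
    Cfsg.Agent.H842.SevenSyl.y7_pow, one_pow, one_mul, ← map_pow,
    show (c[0, 1, 2, 3] * c[4, 5] : Perm (Fin 7)) ^ (7 * 4) = 1 by decide +kernel, map_one]

/-- **`Fi24'`, `p = 5`** -/
theorem two_fi24_5 {K : Type*} [Group K] (h : Spor.IsoFi24' K) : H387.VO.TwoVan 5 K := by
  obtain ⟨e⟩ := h
  refine H387.VO.TwoVan.mulEquiv ?_ e.symm
  refine H387.VO.TwoVan.of_order dvd35_5 dvd30_5 vz35 vz30 fun h => ?_
  have h1 : 7 ∣ 30 := (h ▸ dvd35_7 : 7 ∣ orderOf x30).trans x30_dvd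
  exact absurd h1 (by norm_num)

/-- **`Fi24'`, `p = 7`** -/
theorem two_fi24_7 {K : Type*} [Group K] (h : Spor.IsoFi24' K) : H387.VO.TwoVan 7 K := by
  obtain ⟨e⟩ := h
  refine H387.VO.TwoVan.mulEquiv ?_ e.symm
  refine H387.VO.TwoVan.of_order dvd35_7 dvd28_7 vz35 vz28 fun h => ?_
  have h1 : 5 ∣ 28 := (h ▸ dvd35_5 : 5 ∣ orderOf x28).trans x28_dvd
  exact absurd h1 (by norm_num)

end Cfsg.Agent.H980.VanFi24
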